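import Cfsg.Agent.Lib.FourTransOdd.Count

/-! Four-transitive groups with four-point stabilisers of odd order and degree at least eight have degree eleven. -/

set_option autoImplicit false

namespace CfsgFourTransOdd

open CfsgSharpTrans (D4 fixed mem_fixed fixed_conj conj_at)

variable {α : Type*} [Fintype α] [DecidableEq α] {G : Subgroup (Equiv.Perm α)}

/-- A four group of involutions attached to four points. -/
structure Cfg (G : Subgroup (Equiv.Perm α)) (a b c d : α) (t z : Equiv.Perm α) : Prop where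
  tG : t ∈ G
  zG : z ∈ G
  t2 : t * t = 1
  z2 : z * z = 1
  comm : t * z = z * t
  ta : t a = b
  tb : t b = a
  tc : t c = c
  td : t d = d
  za : z a = a
  zb : z b = b
  zc : z c = d
  zd : z d = c

theorem Setting.exists_cfg (S : Setting G) {a b c d : α} (hd : D4 a b c d) : ∃ t z, Cfg G a b c d t z := by
  obtain ⟨h1, h2, h3, h4, h5, h6⟩ := hd
  have hd : D4 a b c d := ⟨h1, h2, h3, h4, h5, h6⟩
  obtain ⟨t, tG, t2, ta, tb, tc, td⟩ := S.lift (a' := b) (b' := a) (c' := c) (d' := d) hd
    ⟨h1.symm, h4, h5, h2, h3, h6⟩ h1.symm (fun g e1 e2 e3 e4 => ⟨e2, e1, e3, e4⟩)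
  obtain ⟨x, xG, x2, xa, xb, xc, xd⟩ := S.lift (a' := b) (b' := a) (c' := d) (d' := c) hd
    ⟨h1.symm, h5, h4, h3, h2, h6.symm⟩ h1.symm (fun g e1 e2 e3 e4 => ⟨e2, e1, e4, e3⟩)
  set u := x * t with hu
  have ua : u a = a := by simp [hu, ta, xb]
  have ub : u b = b := by simp [hu, tb, xa]
  have uc : u c = d := by simp [hu, tc, xc]
  have ud : u d = c := by simp [hu, td, xd]
  have hH : u * u ∈ stab G a b c d :=
    ⟨mul_mem (mul_mem xG tG) (mul_mem xG tG), by simp [ua], by simp [ub], by simp [uc, ud], by simp [uc, ud]⟩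
  obtain ⟨k, hk⟩ := S.odd_stab hd hH
  have hp := pow_mem hH k
  set z := u * (u * u) ^ k with hz
  have zG : z ∈ G := mul_mem (mul_mem xG tG) hp.1
  have za : z a = a := by simp only [hz, Equiv.Perm.mul_apply, hp.2.1, ua]
  have zb : z b = b := by simp only [hz, Equiv.Perm.mul_apply, hp.2.2.1, ub]
  have zc : z c = d := by simp only [hz, Equiv.Perm.mul_apply, hp.2.2.2.1, uc]
  have zd : z d = c := by simp only [hz, Equiv.Perm.mul_apply, hp.2.2.2.2, ud]
  have zu : z = u ^ (2 * k + 1) := by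
    rw [hz, ← pow_two, ← pow_mul, ← pow_succ']
  have z2 : z * z = 1 := by
    rw [zu, ← mul_pow_eq u k]
    rw [show (u * u) ^ (2 * k + 1) = 1 by rw [← hk, pow_orderOf_eq_one]]
  have hz' : z⁻¹ = z := inv_eq_of_mul_eq_one_right z2
  have hflip : t * z * t⁻¹ = z := by
    conv_rhs => rw [← hz', zu, ← inv_pow]
    rw [zu, ← conj_pow]
    congr 1
    rw [hu, mul_inv_rev, inv_eq_of_mul_eq_one_right t2, inv_eq_of_mul_eq_one_right x2, mul_assoc, mul_assoc x t t,
      t2, mul_one]
  exact ⟨t, z, tG, zG, t2, z2, mul_inv_eq_iff_eq_mul.1 hflip, ta, tb, tc, td, za, zb, zc, zd⟩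
where
  mul_pow_eq (u : Equiv.Perm α) (k : ℕ) : (u * u) ^ (2 * k + 1) = u ^ (2 * k + 1) * u ^ (2 * k + 1) := by
    rw [← pow_two, ← pow_mul, ← pow_add]; congr 1; ring

variable {a b c d : α} {t z : Equiv.Perm α}

theorem Cfg.mul2 (C : Cfg G a b c d t z) : t * z * (t * z) = 1 := by
  rw [mul_assoc, ← mul_assoc z t z, ← C.comm, mul_assoc, C.z2, mul_one, C.t2]

/-- The points moved by the whole four group. -/
def regSet (t z : Equiv.Perm α) : Finset α :=
  Finset.univ.filter fun p => t p ≠ p ∧ z p ≠ p ∧ t (z p) ≠ p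

theorem mem_regSet {t z : Equiv.Perm α} {p : α} : p ∈ regSet t z ↔ t p ≠ p ∧ z p ≠ p ∧ t (z p) ≠ p := by
  simp [regSet]

theorem regular_four (C : Cfg G a b c d t z) {p : α} (hp : p ∈ regSet t z) : D4 p (t p) (z p) (t (z p)) := by
  obtain ⟨h1, h2, h3⟩ := mem_regSet.1 hp
  refine ⟨Ne.symm h1, Ne.symm h2, Ne.symm h3, fun e => h3 ?_, fun e => h2 (t.injective e).symm, fun e => h1 ?_⟩
  · rw [← e, app_app C.t2]
  · apply z.injective
    rw [← comm_app C.comm p]
    exact e.symm

/-- The other pair and the common fixed points. -/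
theorem pattern (S : Setting G) (C : Cfg G a b c d t z) (hd : D4 a b c d) {f : ℕ} (hf23 : f = 2 ∨ f = 3)
    (hf : ∀ s ∈ G, s * s = 1 → s ≠ 1 → (fixed s).card = f) :
    ∃ (A : Finset α) (g1 g2 : α), A.card = f - 2 ∧ g1 ≠ g2 ∧ g1 ∉ A ∧ g2 ∉ A ∧
      fixed t = A ∪ {c, d} ∧ fixed z = A ∪ {a, b} ∧ fixed (t * z) = A ∪ {g1, g2} ∧ t g1 = g2 ∧ z g1 = g2 ∧
      a ∉ A ∧ b ∉ A ∧ c ∉ A ∧ d ∉ A ∧ g1 ∉ ({a, b, c, d} : Finset α) ∧ g2 ∉ ({a, b, c, d} : Finset α) ∧
      (Fintype.card α = (regSet t z).card + f + 4) := by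
  obtain ⟨h1, h2, h3, h4, h5, h6⟩ := hd
  have t1 : t ≠ 1 := fun e => h1 (by rw [← C.ta, e]; rfl)
  have z1 : z ≠ 1 := fun e => h6 (by rw [← C.zc, e]; rfl)
  have tz1 : t * z ≠ 1 := fun e => h1 (by
    have := Equiv.congr_fun e a
    simp only [Equiv.Perm.mul_apply, Equiv.Perm.one_apply, C.za, C.ta] at this
    exact this.symm)
  have ft := hf t C.tG C.t2 t1
  have fz := hf z C.zG C.z2 z1
  have ftz := hf _ (mul_mem C.tG C.zG) C.mul2 tz1
  set A := fixed t ∩ fixed z with hA
  have memA : ∀ p, p ∈ A ↔ t p = p ∧ z p = p := fun p => by rw [hA, Finset.mem_inter, mem_fixed, mem_fixed]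
  have ha : a ∉ A := fun h => h1 (by rw [← C.ta, ((memA a).1 h).1])
  have hb : b ∉ A := fun h => h1 (by rw [← C.tb, ((memA b).1 h).1])
  have hc : c ∉ A := fun h => h6 (by rw [← C.zc, ((memA c).1 h).2])
  have hdA : d ∉ A := fun h => h6 (by rw [← C.zd, ((memA d).1 h).2])
  have sub : ∀ (s r : Equiv.Perm α) (u v : α), s u = u → s v = v → r u = v → r v = u → u ≠ v →
      r * r = 1 → s * r = r * s → (fixed s).card = f →
      fixed s = (fixed s ∩ fixed r) ∪ {u, v} ∧ (fixed s ∩ fixed r).card = f - 2 := by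
    intro s r u v su sv ru rv huv r2 hc2 hs
    have hsub : ({u, v} : Finset α) ⊆ fixed s := by simp [Finset.insert_subset_iff, mem_fixed, su, sv]
    have hrest : ((fixed s) \ {u, v}).card = f - 2 := by
      rw [Finset.card_sdiff_of_subset hsub, hs, Finset.card_pair huv]
    have heq : fixed s \ {u, v} = fixed s ∩ fixed r := by
      ext p
      simp only [Finset.mem_sdiff, Finset.mem_insert, Finset.mem_singleton, Finset.mem_inter, mem_fixed, not_or]
      constructor
      · rintro ⟨hp, hpu, hpv⟩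
        refine ⟨hp, ?_⟩
        have hp' : p ∈ fixed s \ {u, v} := by simp [mem_fixed, hp, hpu, hpv]
        have hrp : r p ∈ fixed s \ {u, v} := by
          simp only [Finset.mem_sdiff, Finset.mem_insert, Finset.mem_singleton, mem_fixed, not_or]
          refine ⟨by rw [comm_app hc2, hp], fun e => hpv ?_, fun e => hpu ?_⟩
          · rw [← ru, ← e, app_app r2]
          · rw [← rv, ← e, app_app r2]
        exact Finset.card_le_one.1 (by omega) _ hrp _ hp'
      · rintro ⟨hp, hr⟩
        exact ⟨hp, fun e => huv (by rw [e] at hr; rw [← hr, ru]), fun e => huv (by rw [e] at hr; rw [← hr, rv])⟩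
    refine ⟨?_, heq ▸ hrest⟩
    rw [← heq, Finset.sdiff_union_of_subset hsub]
  obtain ⟨et, cA⟩ := sub t z c d C.tc C.td C.zc C.zd h6 C.z2 C.comm ft
  obtain ⟨ez, -⟩ := sub z t a b C.za C.zb C.ta C.tb h1 C.t2 C.comm.symm fz
  rw [Finset.inter_comm] at ez
  rw [← hA] at et ez cA
  have hAtz : A ⊆ fixed (t * z) := fun p hp => by
    rw [mem_fixed, Equiv.Perm.mul_apply, ((memA p).1 hp).2, ((memA p).1 hp).1]
  have crest : (fixed (t * z) \ A).card = 2 := by
    rw [Finset.card_sdiff_of_subset hAtz, ftz, cA]; omega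
  obtain ⟨g1, g2, hg12, hg⟩ := Finset.card_eq_two.1 crest
  have memg : ∀ p, p ∈ fixed (t * z) \ A ↔ p = g1 ∨ p = g2 := fun p => by rw [hg]; simp
  have g1m := (memg g1).2 (Or.inl rfl)
  have g2m := (memg g2).2 (Or.inr rfl)
  simp only [Finset.mem_sdiff, mem_fixed, Equiv.Perm.mul_apply] at g1m g2m
  have tg : t g1 = g2 := by
    have hm : t g1 ∈ fixed (t * z) \ A := by
      simp only [Finset.mem_sdiff, mem_fixed, Equiv.Perm.mul_apply]
      refine ⟨by rw [← comm_app C.comm g1, g1m.1], fun h => g1m.2 ?_⟩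
      have := (memA _).1 h
      rw [app_app C.t2] at this
      rwa [← this.1] at h
    rcases (memg _).1 hm with e | e
    · exact absurd ((memA g1).2 ⟨e, t.injective (by rw [g1m.1, e])⟩) g1m.2
    · exact e
  have zg : z g1 = g2 := t.injective (by rw [g1m.1, ← tg, app_app C.t2])
  have nq : ∀ p, (t (z p) = p) → p ∉ ({a, b, c, d} : Finset α) := by
    intro p hp hq
    simp only [Finset.mem_insert, Finset.mem_singleton] at hq
    rcases hq with rfl | rfl | rfl | rfl
    · rw [C.za, C.ta] at hp; exact h1 hp.symm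
    · rw [C.zb, C.tb] at hp; exact h1 hp
    · rw [C.zc, C.td] at hp; exact h6 hp.symm
    · rw [C.zd, C.tc] at hp; exact h6 hp
  have hg1 := nq g1 g1m.1
  have hg2 := nq g2 g2m.1
  refine ⟨A, g1, g2, cA, hg12, g1m.2, g2m.2, et, ez, ?_, tg, zg, ha, hb, hc, hdA, hg1, hg2, ?_⟩
  · rw [← Finset.union_sdiff_of_subset hAtz, hg]
  · have hcompl : (regSet t z)ᶜ = A ∪ {a, b, c, d, g1, g2} := by
      ext p
      simp only [Finset.mem_compl, mem_regSet]
      rw [← not_iff_not, not_not]
      have e1 : t p = p ↔ p ∈ A ∪ {c, d} := by rw [← et, mem_fixed]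
      have e2 : z p = p ↔ p ∈ A ∪ {a, b} := by rw [← ez, mem_fixed]
      have e3 : t (z p) = p ↔ p ∈ A ∪ {g1, g2} := by
        rw [← hg, Finset.union_sdiff_of_subset hAtz, mem_fixed, Equiv.Perm.mul_apply]
      simp only [ne_eq, e1, e2, e3, Finset.mem_union, Finset.mem_insert, Finset.mem_singleton]
      by_cases hA' : p ∈ A
      · simp [hA']
      · simp only [hA', false_or]
        grind
    have hdis : Disjoint A ({a, b, c, d, g1, g2} : Finset α) := by
      simp only [Finset.disjoint_insert_right, Finset.disjoint_singleton_right]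
      exact ⟨ha, hb, hc, hdA, g1m.2, g2m.2⟩
    have h6c : ({a, b, c, d, g1, g2} : Finset α).card = 6 := by
      simp only [Finset.mem_insert, Finset.mem_singleton, not_or] at hg1 hg2
      rw [Finset.card_insert_of_notMem, Finset.card_insert_of_notMem, Finset.card_insert_of_notMem,
        Finset.card_insert_of_notMem, Finset.card_pair hg12] <;>
        simp [h1, h2, h3, h4, h5, h6, Ne.symm hg1.1, Ne.symm hg1.2.1, Ne.symm hg1.2.2.1, Ne.symm hg1.2.2.2,
          Ne.symm hg2.1, Ne.symm hg2.2.1, Ne.symm hg2.2.2.1, Ne.symm hg2.2.2.2]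
    have := Finset.card_compl_add_card (regSet t z)
    rw [hcompl, Finset.card_union_of_disjoint hdis, h6c, cA] at this
    omega

theorem orbit_sizes : ∀ T : Finset (Bool × Bool × Bool), (true, true, true) ∈ T →
    (∀ v ∈ T, (!v.1, v.2.1, !v.2.2) ∈ T ∧ (v.1, !v.2.1, !v.2.2) ∈ T) → T.card = 4 ∨ T.card = 8 := by
  decide +kernel

theorem odd_cube (k : ℕ) (hk : k ≤ 3) (ho : Odd (k * k * k)) : k * k * k = 1 ∨ k * k * k = 27 := by
  interval_cases k <;> simp_all +decide

set_option maxHeartbeats 1000000 in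
/-- The main count. -/
theorem eleven (S : Setting G) (h8 : 8 ≤ Fintype.card α) :
    Fintype.card α = 11 ∧ ∃ a b c d : α, D4 a b c d ∧
      (Nat.card (stab G a b c d) = 1 ∨ Nat.card (stab G a b c d) = 27) := by
  classical
  obtain ⟨f, hf23, hf⟩ := S.exists_f h8
  obtain ⟨s4, -, hs4⟩ := Finset.exists_subset_card_eq (show 4 ≤ (Finset.univ : Finset α).card by
    rw [Finset.card_univ]; omega)
  obtain ⟨a, b, c, d, k1, k2, k3, k4, k5, k6, -⟩ := Finset.card_eq_four.mp hs4
  have hd : D4 a b c d := ⟨k1, k2, k3, k4, k5, k6⟩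
  obtain ⟨t, z, C⟩ := S.exists_cfg hd
  obtain ⟨A, g1, g2, cA, hg12, g1A, g2A, et, ez, etz, tg, zg, aA, bA, cA', dA, hg1, hg2, hn⟩ :=
    pattern S C hd hf23 hf
  set r := (regSet t z).card with hr
  have hrpos : 0 < r := by omega
  obtain ⟨p, hp⟩ := Finset.card_pos.1 hrpos
  have hq := regular_four C hp
  set mx := agr G a b c d b a d c with hmx
  set my := agr G a b c d b a c d with hmy
  have hperm : ∀ {s : Equiv.Perm α} {p q u v : α}, s p ∈ ({p, q, u, v} : Finset α) → s q ∈ ({p, q, u, v} : Finset α) →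
      s u ∈ ({p, q, u, v} : Finset α) → s v ∈ ({p, q, u, v} : Finset α) →
      ∀ w ∈ ({p, q, u, v} : Finset α), s w ∈ ({p, q, u, v} : Finset α) := by
    intro s p q u v h1 h2 h3 h4 w hw
    simp only [Finset.mem_insert, Finset.mem_singleton] at hw
    rcases hw with rfl | rfl | rfl | rfl <;> assumption
  -- four points on the six
  have pt : ∀ w ∈ ({a, b, c, d} : Finset α), t w ∈ ({a, b, c, d} : Finset α) :=
    hperm (by simp [C.ta]) (by simp [C.tb]) (by simp [C.tc]) (by simp [C.td])
  have pz : ∀ w ∈ ({a, b, c, d} : Finset α), z w ∈ ({a, b, c, d} : Finset α) :=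
    hperm (by simp [C.za]) (by simp [C.zb]) (by simp [C.zc]) (by simp [C.zd])
  have ptz : ∀ w ∈ ({a, b, c, d} : Finset α), (t * z) w ∈ ({a, b, c, d} : Finset α) :=
    fun w hw => pt _ (pz w hw)
  set h := Nat.card (stab G a b c d) with hh
  have ct : h = cen G a b c d t * my := by
    rw [hh, S.cen_agr hd C.tG C.t2 pt, C.ta, C.tb, C.tc, C.td]
  have cz : h = cen G a b c d z * my := by
    rw [hh, S.cen_agr hd C.zG C.z2 pz, C.za, C.zb, C.zc, C.zd, hmy,
      S.my_eq (p := c) (q := d) (r := a) (u := b) hd ⟨k6, k2.symm, k4.symm, k3.symm, k5.symm, k1⟩]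
    congr 1
    unfold agr
    congr 1; ext s; simp only [Set.mem_setOf_eq]; tauto
  have ctz : h = cen G a b c d (t * z) * mx := by
    rw [hh, S.cen_agr hd (mul_mem C.tG C.zG) C.mul2 ptz]
    simp only [Equiv.Perm.mul_apply, C.za, C.zb, C.zc, C.zd, C.ta, C.tb, C.tc, C.td, hmx]
  set c' := {x | x ∈ stab G a b c d ∧ t * x = x * t ∧ z * x = x * z}.ncard with hc'
  have F1 := S.formula hd C.tG C.zG C.t2 C.z2 C.comm pt pz
  rw [← hh, ← hc'] at F1
  -- four points in a regular orbit
  have hh' : Nat.card (stab G p (t p) (z p) (t (z p))) = h := by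
    obtain ⟨g, hg, e1, e2, e3, e4⟩ := S.ex a b c d p (t p) (z p) (t (z p)) hd hq
    rw [hh]
    refine (Nat.card_congr (Equiv.subtypeEquiv (MulAut.conj g).toEquiv fun x => ?_)).symm
    show x ∈ stab G a b c d ↔ g * x * g⁻¹ ∈ stab G p (t p) (z p) (t (z p))
    simp only [mem_stab, conj_at g x e1, conj_at g x e2, conj_at g x e3, conj_at g x e4]
    have key : ∀ u v : α, g u = v → (g (x u) = v ↔ x u = u) := fun u v e => by
      rw [← e, g.injective.eq_iff]
    rw [key _ _ e1, key _ _ e2, key _ _ e3, key _ _ e4, Subgroup.mul_mem_cancel_right _ (inv_mem hg),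
      Subgroup.mul_mem_cancel_left _ hg]
  have qperm : ∀ s ∈ ({t, z} : Finset (Equiv.Perm α)), ∀ w ∈ ({p, t p, z p, t (z p)} : Finset α),
      s w ∈ ({p, t p, z p, t (z p)} : Finset α) := by
    intro s hs
    simp only [Finset.mem_insert, Finset.mem_singleton] at hs
    rcases hs with rfl | rfl
    · exact hperm (by simp) (by simp [app_app C.t2]) (by simp) (by simp [app_app C.t2])
    · refine hperm (by simp) (by simp [← comm_app C.comm]) (by simp [app_app C.z2]) ?_
      rw [← comm_app C.comm, app_app C.z2]; simp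
  have qt := qperm t (by simp)
  have qz := qperm z (by simp)
  have qtz : ∀ w ∈ ({p, t p, z p, t (z p)} : Finset α), (t * z) w ∈ ({p, t p, z p, t (z p)} : Finset α) :=
    fun w hw => qt _ (qz w hw)
  have dt : h = cen G p (t p) (z p) (t (z p)) t * mx := by
    rw [← hh', S.cen_agr hq C.tG C.t2 qt, app_app C.t2, app_app C.t2, hmx, S.mx_eq hd hq]
  have dz : h = cen G p (t p) (z p) (t (z p)) z * mx := by
    rw [← hh', S.cen_agr hq C.zG C.z2 qz, app_app C.z2, ← comm_app C.comm p, ← comm_app C.comm (z p),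
      app_app C.z2, hmx, S.mx_eq (p := p) (q := z p) (r := t p) (u := t (z p)) hd
        ⟨hq.2.1, hq.1, hq.2.2.1, hq.2.2.2.1.symm, hq.2.2.2.2.2, hq.2.2.2.2.1⟩]
    congr 1
    unfold agr
    congr 1; ext s; simp only [Set.mem_setOf_eq]; tauto
  have dtz : h = cen G p (t p) (z p) (t (z p)) (t * z) * mx := by
    rw [← hh', S.cen_agr hq (mul_mem C.tG C.zG) C.mul2 qtz]
    simp only [Equiv.Perm.mul_apply]
    rw [← comm_app C.comm p, app_app C.z2, app_app C.t2, ← comm_app C.comm (z p), app_app C.z2, app_app C.t2,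
      hmx, S.mx_eq (p := p) (q := t (z p)) (r := t p) (u := z p) hd
        ⟨hq.2.2.1, hq.1, hq.2.1, hq.2.2.2.2.1.symm, hq.2.2.2.2.2.symm, hq.2.2.2.1⟩]
    congr 1
    unfold agr
    congr 1; ext s; simp only [Set.mem_setOf_eq]; tauto
  set cU := {x | x ∈ stab G p (t p) (z p) (t (z p)) ∧ t * x = x * t ∧ z * x = x * z}.ncard with hcU
  have F2 := S.formula hq C.tG C.zG C.t2 C.z2 C.comm qt qz
  rw [hh', ← hcU] at F2
  have hpos : 0 < h := Nat.card_pos
  have hmxpos : 0 < mx := Nat.pos_of_ne_zero fun e => by rw [e, mul_zero] at ctz; omega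
  have hmypos : 0 < my := Nat.pos_of_ne_zero fun e => by rw [e, mul_zero] at ct; omega
  have X2 : cU * mx = c' * my := by
    have a1 : c' ^ 2 * mx * my ^ 2 = h ^ 2 := by
      apply Nat.eq_of_mul_eq_mul_left hpos
      calc h * (c' ^ 2 * mx * my ^ 2) = h * c' ^ 2 * (mx * my ^ 2) := by ring
        _ = (cen G a b c d t * my) * (cen G a b c d z * my) * (cen G a b c d (t * z) * mx) := by rw [F1]; ring
        _ = h * h ^ 2 := by rw [← ct, ← cz, ← ctz]; ring
    have a2 : cU ^ 2 * mx ^ 3 = h ^ 2 := by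
      apply Nat.eq_of_mul_eq_mul_left hpos
      calc h * (cU ^ 2 * mx ^ 3) = h * cU ^ 2 * mx ^ 3 := by ring
        _ = (cen G p (t p) (z p) (t (z p)) t * mx) * (cen G p (t p) (z p) (t (z p)) z * mx) *
            (cen G p (t p) (z p) (t (z p)) (t * z) * mx) := by rw [F2]; ring
        _ = h * h ^ 2 := by rw [← dt, ← dz, ← dtz]; ring
    refine Nat.pow_left_injective (n := 2) two_ne_zero ?_
    refine Nat.eq_of_mul_eq_mul_left hmxpos ?_
    calc mx * (cU * mx) ^ 2 = cU ^ 2 * mx ^ 3 := by ring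
      _ = c' ^ 2 * mx * my ^ 2 := a2.trans a1.symm
      _ = mx * (c' * my) ^ 2 := by ring
  have hdc := S.double_count hd (by omega) hf h8 (by omega)
  rw [← hmx, ← hmy] at hdc
  have X3 : c' * (f * (f - 1)) = cU * (r + 2) := by
    apply Nat.eq_of_mul_eq_mul_left hmypos
    calc my * (c' * (f * (f - 1))) = cU * (mx * (f * (f - 1))) := by rw [← mul_assoc, mul_comm my c', ← X2]; ring
      _ = cU * (my * (Fintype.card α - f - 2)) := by rw [hdc]
      _ = my * (cU * (r + 2)) := by rw [show Fintype.card α - f - 2 = r + 2 by omega]; ring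
  -- the centraliser of the four group
  let Cz : Subgroup (Equiv.Perm α) := G ⊓ Subgroup.centralizer {t, z}
  have memC : ∀ {g}, g ∈ Cz ↔ g ∈ G ∧ t * g = g * t ∧ z * g = g * z := by
    intro g
    simp only [Cz, Subgroup.mem_inf, Subgroup.mem_centralizer_iff, Set.mem_insert_iff, Set.mem_singleton_iff,
      forall_eq_or_imp, forall_eq]
  have preR : ∀ g ∈ Cz, ∀ w ∈ regSet t z, g w ∈ regSet t z := by
    intro g hg w hw
    obtain ⟨-, gt, gz⟩ := memC.1 hg
    rw [mem_regSet] at hw ⊢
    rw [comm_app gt, comm_app gz, comm_app gt]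
    exact ⟨g.injective.ne hw.1, g.injective.ne hw.2.1, g.injective.ne hw.2.2⟩
  have horb : MulAction.orbit Cz p = (regSet t z : Set α) := by
    ext w
    constructor
    · rintro ⟨g, rfl⟩
      exact preR g g.2 p hp
    · intro hw
      have hq' := regular_four C hw
      obtain ⟨g, hg, e1, e2, e3, e4⟩ := S.ex p (t p) (z p) (t (z p)) w (t w) (z w) (t (z w)) hq hq'
      obtain ⟨w1, hw1, w1t, -⟩ := S.conj_in hq' (s := g * t * g⁻¹) (mul_mem (mul_mem hg C.tG) (inv_mem hg)) C.tG
        (CfsgSharpTrans.conj_sq g t C.t2) C.t2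
        (by rw [conj_at g t e1, e2])
        (by rw [conj_at g t e2, app_app C.t2, app_app C.t2, e1])
        (by rw [conj_at g t e3, e4])
        (by rw [conj_at g t e4, app_app C.t2, app_app C.t2, e3])
      set g' := w1 * g with hg'
      have hg'G : g' ∈ G := mul_mem hw1.1 hg
      have f1 : g' p = w := by rw [hg', Equiv.Perm.mul_apply, e1, hw1.2.1]
      have f2 : g' (t p) = t w := by rw [hg', Equiv.Perm.mul_apply, e2, hw1.2.2.1]
      have f3 : g' (z p) = z w := by rw [hg', Equiv.Perm.mul_apply, e3, hw1.2.2.2.1]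
      have f4 : g' (t (z p)) = t (z w) := by rw [hg', Equiv.Perm.mul_apply, e4, hw1.2.2.2.2]
      have gt : g' * t * g'⁻¹ = t := by
        calc g' * t * g'⁻¹ = w1 * (g * t * g⁻¹) * w1⁻¹ := by rw [hg']; group
          _ = t := w1t
      obtain ⟨w2, hw2, w2z, w2c⟩ := S.conj_in hq' (s := g' * z * g'⁻¹) (mul_mem (mul_mem hg'G C.zG) (inv_mem hg'G))
        C.zG (CfsgSharpTrans.conj_sq g' z C.z2) C.z2
        (by rw [conj_at g' z f1, f3])
        (by rw [conj_at g' z f2, ← comm_app C.comm p, f4, comm_app C.comm w])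
        (by rw [conj_at g' z f3, app_app C.z2, app_app C.z2, f1])
        (by rw [conj_at g' z f4, ← comm_app C.comm (z p), app_app C.z2, f2, ← comm_app C.comm (z w), app_app C.z2])
      have ht2' : t * w2 = w2 * t := w2c t (by
        calc t * (g' * z * g'⁻¹) = g' * t * g'⁻¹ * (g' * z * g'⁻¹) := by rw [gt]
          _ = g' * (t * z) * g'⁻¹ := by group
          _ = g' * (z * t) * g'⁻¹ := by rw [C.comm]
          _ = g' * z * g'⁻¹ * (g' * t * g'⁻¹) := by group
          _ = g' * z * g'⁻¹ * t := by rw [gt]) C.comm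
      refine ⟨⟨w2 * g', memC.2 ⟨mul_mem hw2.1 hg'G, ?_, ?_⟩⟩, ?_⟩
      · calc t * (w2 * g') = (t * w2) * g' := by group
          _ = (w2 * t) * g' := by rw [ht2']
          _ = w2 * (g' * t * g'⁻¹) * g' := by rw [gt]
          _ = w2 * g' * t := by group
      · conv_lhs => rw [← w2z]
        group
      · show (w2 * g') p = w
        rw [Equiv.Perm.mul_apply, f1, hw2.2.1]
  have hS1 : Nat.card (MulAction.stabilizer Cz p) = cU := by
    rw [hcU, ← Nat.card_coe_set_eq]
    refine Nat.card_congr ⟨fun g => ⟨(g : Cz), ?_⟩,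
      fun x => ⟨⟨x, memC.2 ⟨x.2.1.1, x.2.2⟩⟩, x.2.1.2.1⟩, fun g => rfl, fun x => rfl⟩
    have hp' : ((g : Cz) : Equiv.Perm α) p = p := g.2
    obtain ⟨gG, gt, gz⟩ := memC.1 (g : Cz).2
    have ez : ((g : Cz) : Equiv.Perm α) (z p) = z p := by rw [← comm_app gz, hp']
    exact ⟨⟨gG, hp', by rw [← comm_app gt, hp'], ez, by rw [← comm_app gt, ez]⟩, gt, gz⟩
  have hcardC : Nat.card Cz = r * cU := by
    have h := MulAction.card_orbit_mul_card_stabilizer_eq_card_group Cz p
    simp only [← Nat.card_eq_fintype_card] at h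
    rw [hS1] at h
    rw [← h]
    congr 1
    rw [Nat.card_coe_set_eq, horb, Set.ncard_coe_finset]
  -- action on the three pairs
  have fixset : ∀ g ∈ Cz, ∀ s, s * g = g * s → ∀ w ∈ fixed s, g w ∈ fixed s := by
    intro g _ s hs w hw
    rw [mem_fixed] at hw ⊢
    rw [comm_app hs, hw]
  have hAfix : ∀ g ∈ Cz, ∀ w, g w ∈ A → w ∈ A := by
    intro g hg w hw
    have h1 : g w ∈ fixed t := by rw [et]; exact Finset.mem_union_left _ hw
    have h2 : g w ∈ fixed z := by rw [ez]; exact Finset.mem_union_left _ hw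
    obtain ⟨-, gt, gz⟩ := memC.1 hg
    rw [mem_fixed, comm_app gt, g.injective.eq_iff, ← mem_fixed, et, Finset.mem_union] at h1
    rw [mem_fixed, comm_app gz, g.injective.eq_iff, ← mem_fixed, ez, Finset.mem_union] at h2
    simp only [Finset.mem_insert, Finset.mem_singleton] at h1 h2
    rcases h1 with h1 | rfl | rfl
    · exact h1
    · rcases h2 with h2 | h2 | h2
      · exact h2
      · exact absurd h2 k2.symm
      · exact absurd h2 k4.symm
    · rcases h2 with h2 | h2 | h2
      · exact h2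
      · exact absurd h2 k3.symm
      · exact absurd h2 k5.symm
  have pair : ∀ g ∈ Cz, ∀ s, s * g = g * s → ∀ u v : α, fixed s = A ∪ {u, v} → u ∉ A → g u = u ∨ g u = v := by
    intro g hg s hs u v hs' hu
    have := fixset g hg s hs u (by rw [hs']; simp)
    rw [hs', Finset.mem_union] at this
    rcases this with h | h
    · exact absurd (hAfix g hg u h) hu
    · simpa using h
  have tri : ∀ g : Cz, ((g : Equiv.Perm α) a = a ∨ (g : Equiv.Perm α) a = b) ∧
      ((g : Equiv.Perm α) c = c ∨ (g : Equiv.Perm α) c = d) ∧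
      ((g : Equiv.Perm α) g1 = g1 ∨ (g : Equiv.Perm α) g1 = g2) := by
    intro g
    obtain ⟨-, gt, gz⟩ := memC.1 g.2
    refine ⟨pair g g.2 z gz a b ez aA, pair g g.2 t gt c d et cA', pair g g.2 (t * z) ?_ g1 g2 etz g1A⟩
    rw [mul_assoc, gz, ← mul_assoc, gt, mul_assoc]
  let code : α × α × α → Bool × Bool × Bool := fun v => (decide (v.1 = a), decide (v.2.1 = c), decide (v.2.2 = g1))
  set o : α × α × α := (a, c, g1) with ho
  have hinjO : Set.InjOn code (MulAction.orbit Cz o) := by
    rintro _ ⟨g, rfl⟩ _ ⟨g', rfl⟩ e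
    obtain ⟨x1, x2, x3⟩ := tri g
    obtain ⟨y1, y2, y3⟩ := tri g'
    simp only [code, Prod.mk.injEq, decide_eq_decide] at e
    obtain ⟨ea, ec, eg⟩ := e
    show ((g : Equiv.Perm α) a, (g : Equiv.Perm α) c, (g : Equiv.Perm α) g1) =
      ((g' : Equiv.Perm α) a, (g' : Equiv.Perm α) c, (g' : Equiv.Perm α) g1)
    change ((g : Equiv.Perm α) a = a ↔ (g' : Equiv.Perm α) a = a) at ea
    change ((g : Equiv.Perm α) c = c ↔ (g' : Equiv.Perm α) c = c) at ec
    change ((g : Equiv.Perm α) g1 = g1 ↔ (g' : Equiv.Perm α) g1 = g1) at eg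
    have two : ∀ {P Q : α} {u v : α}, (P = u ∨ P = v) → (Q = u ∨ Q = v) → (P = u ↔ Q = u) → P = Q := by
      rintro P Q u v (rfl | rfl) (hQ | hQ) hiff
      · exact hQ.symm
      · exact (hiff.1 rfl).symm
      · exact (hiff.2 hQ).trans hQ.symm
      · exact hQ.symm
    rw [two x1 y1 ea, two x2 y2 ec, two x3 y3 eg]
  let T : Finset (Bool × Bool × Bool) := Finset.univ.filter fun v => ∃ g : Cz, code (g • o) = v
  have hTcard : T.card = Nat.card (MulAction.orbit Cz o) := by
    rw [Nat.card_coe_set_eq, ← hinjO.ncard_image, ← Set.ncard_coe_finset]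
    congr 1
    ext v
    simp only [T, Finset.coe_filter, Finset.mem_univ, true_and, Set.mem_setOf_eq, Set.mem_image, MulAction.mem_orbit_iff]
    exact ⟨fun ⟨g, e⟩ => ⟨_, ⟨g, rfl⟩, e⟩, fun ⟨_, ⟨g, rfl⟩, e⟩ => ⟨g, e⟩⟩
  have hT : T.card = 4 ∨ T.card = 8 := by
    refine orbit_sizes T ?_ ?_
    · exact Finset.mem_filter.2 ⟨Finset.mem_univ _, 1, by simp [code, ho]⟩
    · intro v hv
      obtain ⟨g, rfl⟩ := (Finset.mem_filter.1 hv).2
      obtain ⟨x1, x2, x3⟩ := tri g
      have tmem : t ∈ Cz := memC.2 ⟨C.tG, rfl, C.comm.symm⟩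
      have zmem : z ∈ Cz := memC.2 ⟨C.zG, C.comm, rfl⟩
      have tg2 : t g2 = g1 := by rw [← tg, app_app C.t2]
      have zg2 : z g2 = g1 := by rw [← zg, app_app C.z2]
      refine ⟨Finset.mem_filter.2 ⟨Finset.mem_univ _, ⟨t, tmem⟩ * g, ?_⟩,
        Finset.mem_filter.2 ⟨Finset.mem_univ _, ⟨z, zmem⟩ * g, ?_⟩⟩
      · show code (t ((g : Equiv.Perm α) a), t ((g : Equiv.Perm α) c), t ((g : Equiv.Perm α) g1)) =
          (!decide ((g : Equiv.Perm α) a = a), decide ((g : Equiv.Perm α) c = c), !decide ((g : Equiv.Perm α) g1 = g1))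
        rcases x1 with e1 | e1 <;> rcases x2 with e2 | e2 <;> rcases x3 with e3 | e3 <;>
          simp [code, e1, e2, e3, C.ta, C.tb, C.tc, C.td, tg, tg2, k1.symm, k6.symm, hg12.symm]
      · show code (z ((g : Equiv.Perm α) a), z ((g : Equiv.Perm α) c), z ((g : Equiv.Perm α) g1)) =
          (decide ((g : Equiv.Perm α) a = a), !decide ((g : Equiv.Perm α) c = c), !decide ((g : Equiv.Perm α) g1 = g1))
        rcases x1 with e1 | e1 <;> rcases x2 with e2 | e2 <;> rcases x3 with e3 | e3 <;>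
          simp [code, e1, e2, e3, C.za, C.zb, C.zc, C.zd, zg, zg2, k1.symm, k6.symm, hg12.symm]
  have hS2 : Nat.card (MulAction.stabilizer Cz o) = c' := by
    rw [hc', ← Nat.card_coe_set_eq]
    refine Nat.card_congr ⟨fun g => ⟨(g : Cz), ?_⟩,
      fun x => ⟨⟨x, memC.2 ⟨x.2.1.1, x.2.2⟩⟩, ?_⟩, fun g => rfl, fun x => rfl⟩
    · have hp' : (((g : Cz) : Equiv.Perm α) a, ((g : Cz) : Equiv.Perm α) c, ((g : Cz) : Equiv.Perm α) g1) =
          (a, c, g1) := g.2
      simp only [Prod.mk.injEq] at hp'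
      obtain ⟨gG, gt, gz⟩ := memC.1 (g : Cz).2
      refine ⟨⟨gG, hp'.1, ?_, hp'.2.1, ?_⟩, gt, gz⟩
      · rw [← C.ta, ← comm_app gt, hp'.1]
      · rw [← C.zc, ← comm_app gz, hp'.2.1]
    · obtain ⟨hx, xt, xz⟩ := x.2
      show ((x : Equiv.Perm α) a, (x : Equiv.Perm α) c, (x : Equiv.Perm α) g1) = (a, c, g1)
      rw [hx.2.1, hx.2.2.2.1]
      suffices (x : Equiv.Perm α) g1 = g1 by rw [this]
      rcases (tri ⟨x, memC.2 ⟨hx.1, xt, xz⟩⟩).2.2 with e | e
      · exact e
      · have e : (x : Equiv.Perm α) g1 = g2 := e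
        refine fix_of_sq (S.odd_stab hd hx) ?_
        rw [e, ← tg, ← comm_app xt, e, ← tg, app_app C.t2]
  have hcard2 : Nat.card Cz = T.card * c' := by
    have h := MulAction.card_orbit_mul_card_stabilizer_eq_card_group Cz o
    simp only [← Nat.card_eq_fintype_card] at h
    rw [hS2] at h
    rw [← h, hTcard]
  have hcUpos : 0 < cU := by rw [← hS1]; exact Nat.card_pos
  have X4 : r * (f * (f - 1)) = T.card * (r + 2) := by
    refine Nat.eq_of_mul_eq_mul_left hcUpos ?_
    calc cU * (r * (f * (f - 1))) = T.card * c' * (f * (f - 1)) := by rw [← hcard2, hcardC]; ring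
      _ = T.card * (cU * (r + 2)) := by rw [mul_assoc, X3]
      _ = cU * (T.card * (r + 2)) := by ring
  obtain ⟨hf3, hr4⟩ : f = 3 ∧ r = 4 := by
    rcases hf23 with rfl | rfl <;> rcases hT with e | e <;> rw [e] at X4 <;> simp at X4 <;> omega
  subst hf3
  refine ⟨by omega, p, t p, z p, t (z p), hq, ?_⟩
  -- the regular orbit
  have hR : regSet t z = {p, t p, z p, t (z p)} := by
    obtain ⟨q1, q2, q3, q4, q5, q6⟩ := hq
    refine (Finset.eq_of_subset_of_card_le ?_ ?_).symm
    · intro w hw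
      simp only [Finset.mem_insert, Finset.mem_singleton] at hw
      have tmem : t ∈ Cz := memC.2 ⟨C.tG, rfl, C.comm.symm⟩
      have zmem : z ∈ Cz := memC.2 ⟨C.zG, C.comm, rfl⟩
      rcases hw with rfl | rfl | rfl | rfl
      · exact hp
      · exact preR t tmem p hp
      · exact preR z zmem p hp
      · exact preR t tmem _ (preR z zmem p hp)
    · rw [← hr, hr4, Finset.card_insert_of_notMem (by simp [q1, q2, q3]),
        Finset.card_insert_of_notMem (by simp [q4, q5]), Finset.card_pair q6]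
  have hA1 : A.card = 1 := cA
  obtain ⟨e, hAe⟩ := Finset.card_eq_one.1 hA1
  have cover : ∀ w, w = e ∨ w = a ∨ w = b ∨ w = c ∨ w = d ∨ w = g1 ∨ w = g2 ∨ w = p ∨ w = t p ∨ w = z p ∨
      w = t (z p) := by
    intro w
    by_cases hw : w ∈ regSet t z
    · rw [hR] at hw
      simp only [Finset.mem_insert, Finset.mem_singleton] at hw
      rcases hw with h | h | h | h <;> simp [h]
    · rw [mem_regSet] at hw
      have e1 : t w = w → w = e ∨ w = c ∨ w = d := fun h => by
        rw [← mem_fixed, et, hAe] at h; simp at h; rcases h with h | h | h <;> simp [h]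
      have e2 : z w = w → w = e ∨ w = a ∨ w = b := fun h => by
        rw [← mem_fixed, ez, hAe] at h; simp at h; rcases h with h | h | h <;> simp [h]
      have e3 : t (z w) = w → w = e ∨ w = g1 ∨ w = g2 := fun h => by
        rw [← Equiv.Perm.mul_apply, ← mem_fixed, etz, hAe] at h; simp at h; rcases h with h | h | h <;> simp [h]
      by_cases x1 : t w = w
      · rcases e1 x1 with h | h | h <;> simp [h]
      by_cases x2 : z w = w
      · rcases e2 x2 with h | h | h <;> simp [h]
      by_cases x3 : t (z w) = w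
      · rcases e3 x3 with h | h | h <;> simp [h]
      exact absurd ⟨x1, x2, x3⟩ hw
  -- an element of the stabiliser commuting with `t * z` and fixing `e` is trivial
  have triv : ∀ g, g ∈ stab G p (t p) (z p) (t (z p)) → t * z * g = g * (t * z) → g e = e → g = 1 := by
    intro g hg hcomm hge
    have ho := S.odd_stab hq hg
    have hF : ∀ w ∈ fixed (t * z), g w ∈ fixed (t * z) := fun w hw => by
      rw [mem_fixed] at hw ⊢; rw [comm_app hcomm, hw]
    have heF : e ∈ fixed (t * z) := by rw [etz, hAe]; simp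
    have memF : ∀ w, w ∈ fixed (t * z) ↔ w = e ∨ w = g1 ∨ w = g2 := fun w => by
      rw [etz, hAe]; simp only [Finset.mem_union, Finset.mem_insert, Finset.mem_singleton]
    have nee1 : g1 ≠ e := fun h => g1A (by rw [hAe, h]; simp)
    have nee2 : g2 ≠ e := fun h => g2A (by rw [hAe, h]; simp)
    have hgg : ∀ u v : α, (∀ w, (w = e ∨ w = u ∨ w = v) → (g w = e ∨ g w = u ∨ g w = v)) → u ≠ e → v ≠ e → u ≠ v →
        g u = u := by
      intro u v hu ue ve uv
      rcases hu u (Or.inr (Or.inl rfl)) with h | h | h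
      · exact absurd (g.injective (h.trans hge.symm)) ue
      · exact h
      · refine fix_of_sq ho ?_
        rcases hu v (Or.inr (Or.inr rfl)) with h' | h' | h'
        · exact absurd (g.injective (h'.trans hge.symm)) ve
        · rw [h, h']
        · exact absurd (g.injective (h.trans h'.symm)) uv
    have hg1' : g g1 = g1 := hgg g1 g2 (fun w hw => (memF _).1 (hF w ((memF w).2 hw))) nee1 nee2 hg12
    have hg2' : g g2 = g2 := hgg g2 g1 (fun w hw => by
      rcases (memF _).1 (hF w ((memF w).2 (by rcases hw with h | h | h <;> simp [h]))) with h | h | h <;> simp [h])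
      nee2 nee1 hg12.symm
    obtain ⟨-, q1, q2, q3, q4⟩ := hg
    have hblock : ∀ w ∈ ({a, b, c, d} : Finset α), g w ∈ ({a, b, c, d} : Finset α) := by
      intro w hw
      have hne : ∀ u, g u = u → w ≠ u → g w ≠ u := fun u hu hwu h => hwu (g.injective (h.trans hu.symm))
      simp only [Finset.mem_insert, Finset.mem_singleton, not_or] at hg1 hg2 hw ⊢
      have hwne : w ≠ e ∧ w ≠ g1 ∧ w ≠ g2 := by
        refine ⟨fun h => ?_, fun h => ?_, fun h => ?_⟩
        · have : w ∈ A := by rw [hAe, h]; simp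
          rcases hw with rfl | rfl | rfl | rfl <;> contradiction
        · subst h
          rcases hw with rfl | rfl | rfl | rfl <;> simp at hg1
        · subst h
          rcases hw with rfl | rfl | rfl | rfl <;> simp at hg2
      have hwR : w ≠ p ∧ w ≠ t p ∧ w ≠ z p ∧ w ≠ t (z p) := by
        have hw' : w ∉ regSet t z := by
          rw [mem_regSet]
          rcases hw with rfl | rfl | rfl | rfl <;> simp [C.za, C.zb, C.tc, C.td]
        rw [hR] at hw'
        simpa using hw'
      have := cover (g w)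
      have n1 := hne e hge hwne.1
      have n2 := hne g1 hg1' hwne.2.1
      have n3 := hne g2 hg2' hwne.2.2
      have n4 := hne p q1 hwR.1
      have n5 := hne _ q2 hwR.2.1
      have n6 := hne _ q3 hwR.2.2.1
      have n7 := hne _ q4 hwR.2.2.2
      rcases this with h | h | h | h | h | h | h | h | h | h | h
      · exact absurd h n1
      · exact Or.inl h
      · exact Or.inr (Or.inl h)
      · exact Or.inr (Or.inr (Or.inl h))
      · exact Or.inr (Or.inr (Or.inr h))
      · exact absurd h n2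
      · exact absurd h n3
      · exact absurd h n4
      · exact absurd h n5
      · exact absurd h n6
      · exact absurd h n7
    have va : (t * z) a = b := by simp [C.za, C.ta]
    have vc : (t * z) c = d := by simp [C.zc, C.td]
    have ga' : g b = (t * z) (g a) := by rw [comm_app hcomm, va]
    have gc' : g d = (t * z) (g c) := by rw [comm_app hcomm, vc]
    have vb : (t * z) b = a := by simp [C.zb, C.tb]
    have vd : (t * z) d = c := by simp [C.zd, C.tc]
    have ma := hblock a (by simp)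
    have mc := hblock c (by simp)
    simp only [Finset.mem_insert, Finset.mem_singleton] at ma mc
    have hpairs : ∀ w ∈ ({a, b} : Finset α), g (g w) ∈ ({a, b} : Finset α) := by
      intro w hw
      simp only [Finset.mem_insert, Finset.mem_singleton] at hw ⊢
      have hc_ne : g c ≠ g a := g.injective.ne k2.symm
      have hc_ne' : g c ≠ g b := g.injective.ne k4.symm
      rcases ma with e1 | e1 | e1 | e1
      · rw [e1, va] at ga'; rcases hw with rfl | rfl <;> simp [e1, ga']
      · rw [e1, vb] at ga'; rcases hw with rfl | rfl <;> simp [e1, ga']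
      · rw [e1, vc] at ga'
        rcases mc with e2 | e2 | e2 | e2
        · rw [e2, va] at gc'; rcases hw with rfl | rfl <;> simp [e1, ga', e2, gc']
        · rw [e2, vb] at gc'; rcases hw with rfl | rfl <;> simp [e1, ga', e2, gc']
        · exact absurd (e2.trans e1.symm) hc_ne
        · exact absurd (e2.trans ga'.symm) hc_ne'
      · rw [e1, vd] at ga'
        rcases mc with e2 | e2 | e2 | e2
        · rw [e2, va] at gc'; rcases hw with rfl | rfl <;> simp [e1, ga', e2, gc']
        · rw [e2, vb] at gc'; rcases hw with rfl | rfl <;> simp [e1, ga', e2, gc']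
        · exact absurd (e2.trans ga'.symm) hc_ne'
        · exact absurd (e2.trans e1.symm) hc_ne
    have hga : g a = a := by
      have := set_of_sq ho hpairs (show a ∈ ({a, b} : Finset α) by simp)
      simp only [Finset.mem_insert, Finset.mem_singleton] at this
      rcases this with h | h
      · exact h
      · refine fix_of_sq ho ?_
        rw [h, ga', h, vb]
    have hgb : g b = b := by rw [ga', hga, va]
    have hgc : g c = c := by
      rcases mc with h | h | h | h
      · exact absurd (g.injective (h.trans hga.symm)) k2.symm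
      · exact absurd (g.injective (h.trans hgb.symm)) k4.symm
      · exact h
      · refine fix_of_sq ho ?_
        rw [h, gc', h, vd]
    have hgd : g d = d := by rw [gc', hgc, vc]
    ext w
    rcases cover w with rfl | rfl | rfl | rfl | rfl | rfl | rfl | rfl | rfl | rfl | rfl <;>
      simp [hge, hga, hgb, hgc, hgd, hg1', hg2', q1, q2, q3, q4]
  have hcU1 : cU = 1 := by
    rw [hcU, Set.ncard_eq_one]
    refine ⟨1, Set.eq_singleton_iff_unique_mem.2 ⟨⟨one_mem _, by simp, by simp⟩, ?_⟩⟩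
    rintro g ⟨hg, gt, gz⟩
    refine triv g hg (by rw [mul_assoc, gz, ← mul_assoc, gt, mul_assoc]) ?_
    have hA' : g e ∈ fixed t ∧ g e ∈ fixed z := by
      have hte : t e = e := mem_fixed.1 (by rw [et, hAe]; simp)
      have hze : z e = e := mem_fixed.1 (by rw [ez, hAe]; simp)
      exact ⟨mem_fixed.2 (by rw [comm_app gt, hte]), mem_fixed.2 (by rw [comm_app gz, hze])⟩
    rw [et, ez, hAe] at hA'
    simp only [Finset.mem_union, Finset.mem_insert, Finset.mem_singleton] at hA'
    obtain ⟨h1, h2⟩ := hA'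
    rcases h1 with h1 | h1 | h1
    · exact h1
    · rcases h2 with h2 | h2 | h2
      · exact h2
      · exact absurd (h1.symm.trans h2) k2.symm
      · exact absurd (h1.symm.trans h2) k4.symm
    · rcases h2 with h2 | h2 | h2
      · exact h2
      · exact absurd (h1.symm.trans h2) k3.symm
      · exact absurd (h1.symm.trans h2) k5.symm
  set cx := cen G p (t p) (z p) (t (z p)) (t * z) with hcx
  have hcx3 : cx ≤ 3 := by
    have hF3 : (fixed (t * z)).card = 3 := by
      refine hf _ (mul_mem C.tG C.zG) C.mul2 fun h => k1 ?_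
      have := Equiv.congr_fun h a
      simp only [Equiv.Perm.mul_apply, Equiv.Perm.one_apply, C.za, C.ta] at this
      exact this.symm
    rw [← hF3, ← Set.ncard_coe_finset, hcx]
    refine Set.ncard_le_ncard_of_injOn (fun g => g e) ?_ ?_ (Finset.finite_toSet _)
    · rintro g ⟨-, hg⟩
      rw [Finset.mem_coe, mem_fixed, comm_app hg]
      congr 1
      exact mem_fixed.1 (by rw [etz, hAe]; simp)
    · rintro g ⟨hg, hgc⟩ g' ⟨hg', hgc'⟩ he
      have hmem : g'⁻¹ * g ∈ stab G p (t p) (z p) (t (z p)) := mul_mem (inv_mem hg') hg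
      refine (inv_mul_eq_one.1 (triv _ hmem ?_ ?_)).symm
      · calc t * z * (g'⁻¹ * g) = (t * z * g'⁻¹) * g := by group
          _ = (g'⁻¹ * (t * z)) * g := by rw [(Commute.inv_right (show Commute (t * z) g' from hgc')).eq]
          _ = g'⁻¹ * (t * z * g) := by group
          _ = g'⁻¹ * g * (t * z) := by rw [hgc]; group
      · show g'⁻¹ (g e) = e
        rw [show g e = g' e from he]
        exact g'.symm_apply_apply e
  rw [hh']
  rw [hcU1, one_pow, mul_one] at F2
  have hct : cen G p (t p) (z p) (t (z p)) t = cx := Nat.eq_of_mul_eq_mul_right hmxpos (dt.symm.trans dtz)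
  have hcz : cen G p (t p) (z p) (t (z p)) z = cx := Nat.eq_of_mul_eq_mul_right hmxpos (dz.symm.trans dtz)
  rw [hct, hcz] at F2
  have hodd := S.odd_card hd
  rw [← hh, F2] at hodd
  rw [F2]
  exact odd_cube cx hcx3 hodd

end CfsgFourTransOdd
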