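import Mathlib

/-! Fixed and inverted elements of commuting involutory automorphisms of a group of odd order. -/

set_option autoImplicit false

namespace CfsgFourTransOdd

variable {H : Type*} [Group H] [Finite H]

/-- The square root in a group of odd order. -/
noncomputable def root (g : H) : H := g ^ ((Nat.card H + 1) / 2)

theorem root_sq (ho : Odd (Nat.card H)) (g : H) : root g * root g = g := by
  obtain ⟨k, hk⟩ := ho
  rw [root, ← pow_add, show (Nat.card H + 1) / 2 + (Nat.card H + 1) / 2 = Nat.card H + 1 by omega,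
    pow_succ, pow_card_eq_one', one_mul]

theorem sq_inj (ho : Odd (Nat.card H)) {a b : H} (h : a * a = b * b) : a = b := by
  obtain ⟨k, hk⟩ := ho
  have e : ∀ x : H, (x * x) ^ (k + 1) = x := fun x => by
    rw [← pow_two, ← pow_mul, show 2 * (k + 1) = Nat.card H + 1 by omega, pow_succ, pow_card_eq_one', one_mul]
  rw [← e a, h, e b]

theorem root_mem (K : Subgroup H) {g : H} (hg : g ∈ K) : root g ∈ K := pow_mem hg _

theorem map_root (φ : H ≃* H) (g : H) : φ (root g) = root (φ g) := map_pow φ g _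

theorem root_inv (g : H) : root g⁻¹ = (root g)⁻¹ := inv_pow g _

/-- Uniqueness of the factorisation fixed times inverted. -/
theorem fac_inj (ho : Odd (Nat.card H)) (φ : H ≃* H) {c c' j j' : H} (hc : φ c = c) (hc' : φ c' = c')
    (hj : φ j = j⁻¹) (hj' : φ j' = j'⁻¹) (h : c * j = c' * j') : c = c' ∧ j = j' := by
  have h2 : c * j⁻¹ = c' * j'⁻¹ := by
    have := congrArg φ h
    rwa [map_mul, map_mul, hc, hc', hj, hj'] at this
  have e : j = j' := by
    refine sq_inj ho ?_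
    calc j * j = (c * j⁻¹)⁻¹ * (c * j) := by group
      _ = (c' * j'⁻¹)⁻¹ * (c' * j') := by rw [h, h2]
      _ = j' * j' := by group
  subst e
  exact ⟨mul_right_cancel h, rfl⟩

/-- Existence of the factorisation. -/
theorem fac_exists (ho : Odd (Nat.card H)) (φ : H ≃* H) (hφ : ∀ x, φ (φ x) = x) (K : Subgroup H)
    (hK : ∀ x ∈ K, φ x ∈ K) {g : H} (hg : g ∈ K) :
    ∃ c j : H, (c ∈ K ∧ φ c = c) ∧ (j ∈ K ∧ φ j = j⁻¹) ∧ c * j = g := by
  set j := root ((φ g)⁻¹ * g) with hjdef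
  have hj : j ∈ K := root_mem K (mul_mem (inv_mem (hK g hg)) hg)
  have hjinv : φ j = j⁻¹ := by
    rw [hjdef, map_root, ← root_inv, map_mul, map_inv, hφ]; congr 1; group
  refine ⟨g * j⁻¹, j, ⟨mul_mem hg (inv_mem hj), ?_⟩, ⟨hj, hjinv⟩, by group⟩
  rw [map_mul, map_inv, hjinv, inv_inv, eq_mul_inv_iff_mul_eq, mul_assoc, hjdef, root_sq ho]
  group

/-- Order of an invariant subgroup. -/
theorem card_base (ho : Odd (Nat.card H)) (φ : H ≃* H) (hφ : ∀ x, φ (φ x) = x) (K : Subgroup H)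
    (hK : ∀ x ∈ K, φ x ∈ K) :
    Nat.card K = {x : H | x ∈ K ∧ φ x = x}.ncard * {x : H | x ∈ K ∧ φ x = x⁻¹}.ncard := by
  rw [← Set.ncard_prod]
  have himg : (fun p : H × H => p.1 * p.2) '' ({x : H | x ∈ K ∧ φ x = x} ×ˢ {x : H | x ∈ K ∧ φ x = x⁻¹}) = (K : Set H) := by
    ext g
    constructor
    · rintro ⟨⟨c, j⟩, ⟨hc, hj⟩, rfl⟩
      exact mul_mem hc.1 hj.1
    · intro hg
      obtain ⟨c, j, hc, hj, e⟩ := fac_exists ho φ hφ K hK hg
      exact ⟨(c, j), ⟨hc, hj⟩, e⟩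
  have hinj : Set.InjOn (fun p : H × H => p.1 * p.2)
      ({x : H | x ∈ K ∧ φ x = x} ×ˢ {x : H | x ∈ K ∧ φ x = x⁻¹}) := by
    rintro ⟨c, j⟩ ⟨hc, hj⟩ ⟨c', j'⟩ ⟨hc', hj'⟩ e
    obtain ⟨e1, e2⟩ := fac_inj ho φ hc.2 hc'.2 hj.2 hj'.2 e
    exact Prod.ext e1 e2
  rw [← hinj.ncard_image, himg]
  exact Nat.card_coe_set_eq _

/-- The Brauer–Wielandt formula for a four group acting on a group of odd order. -/
theorem four_formula (ho : Odd (Nat.card H)) (φ ψ : H ≃* H) (hφ : ∀ x, φ (φ x) = x) (hψ : ∀ x, ψ (ψ x) = x)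
    (hc : ∀ x, φ (ψ x) = ψ (φ x)) :
    Nat.card H * {x : H | φ x = x ∧ ψ x = x}.ncard ^ 2 =
      {x : H | φ x = x}.ncard * {x : H | ψ x = x}.ncard * {x : H | φ (ψ x) = x}.ncard := by
  let Kψ : Subgroup H := MonoidHom.eqLocus ψ.toMonoidHom (MonoidHom.id H)
  let Kφψ : Subgroup H := MonoidHom.eqLocus (φ.toMonoidHom.comp ψ.toMonoidHom) (MonoidHom.id H)
  have mψ : ∀ x, x ∈ Kψ ↔ ψ x = x := fun x => Iff.rfl
  have mφψ : ∀ x, x ∈ Kφψ ↔ φ (ψ x) = x := fun x => Iff.rfl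
  have h0 := card_base ho φ hφ ⊤ (fun x _ => Subgroup.mem_top _)
  rw [Subgroup.card_top] at h0
  simp only [Subgroup.mem_top, true_and] at h0
  have h1 := card_base ho φ hφ Kψ (fun x hx => by rw [mψ] at hx ⊢; rw [← hc, hx])
  have h2 := card_base ho φ hφ Kφψ (fun x hx => by rw [mφψ] at hx ⊢; rw [← hc, hx])
  have n1 : Nat.card Kψ = {x : H | ψ x = x}.ncard := Nat.card_coe_set_eq _
  have n2 : Nat.card Kφψ = {x : H | φ (ψ x) = x}.ncard := Nat.card_coe_set_eq _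
  have f1 : {x : H | x ∈ Kψ ∧ φ x = x} = {x : H | φ x = x ∧ ψ x = x} := by
    ext x; simp [mψ, and_comm]
  have f2 : {x : H | x ∈ Kφψ ∧ φ x = x} = {x : H | φ x = x ∧ ψ x = x} := by
    ext x
    simp only [Set.mem_setOf_eq, mφψ]
    exact ⟨fun h => ⟨h.2, φ.injective (h.1.trans h.2.symm)⟩, fun h => ⟨by rw [h.2, h.1], h.1⟩⟩
  rw [f1, n1] at h1
  rw [f2, n2] at h2
  have hJ : {x : H | φ x = x⁻¹}.ncard =
      {x : H | x ∈ Kψ ∧ φ x = x⁻¹}.ncard * {x : H | x ∈ Kφψ ∧ φ x = x⁻¹}.ncard := by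
    rw [← Set.ncard_prod]
    have himg : (fun p : H × H => p.1 * p.2 * p.1) ''
        ({x : H | x ∈ Kψ ∧ φ x = x⁻¹} ×ˢ {x : H | x ∈ Kφψ ∧ φ x = x⁻¹}) = {x : H | φ x = x⁻¹} := by
      ext g
      constructor
      · rintro ⟨⟨d, k⟩, ⟨hd, hk⟩, rfl⟩
        show φ (d * k * d) = (d * k * d)⁻¹
        rw [map_mul, map_mul, hd.2, hk.2]; group
      · intro hg
        have hg : φ g = g⁻¹ := hg
        obtain ⟨c, k, hcK, hkK, e⟩ := fac_exists ho ψ hψ ⊤ (fun x _ => Subgroup.mem_top _) (Subgroup.mem_top g)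
        have ecφ : ψ (φ c) = φ c := by rw [← hc, hcK.2]
        have ekφ : ψ (φ k) = (φ k)⁻¹ := by rw [← hc, hkK.2, map_inv]
        have e1 : φ c * φ k = c⁻¹ * (c * k⁻¹ * c⁻¹) := by
          rw [← map_mul, e, hg, ← e]; group
        obtain ⟨ec, ek⟩ := fac_inj ho ψ ecφ (by rw [map_inv, hcK.2]) ekφ
          (by simp only [map_mul, map_inv, hcK.2, hkK.2]; group) e1
        set d := root c with hd
        have hdd : d * d = c := root_sq ho c
        have dψ : ψ d = d := by rw [hd, map_root, hcK.2]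
        have dφ : φ d = d⁻¹ := by rw [hd, map_root, ec, root_inv]
        have kψ : ψ (d * k * d⁻¹) = (d * k * d⁻¹)⁻¹ := by
          rw [map_mul, map_mul, map_inv, dψ, hkK.2]; group
        have kφ : φ (d * k * d⁻¹) = (d * k * d⁻¹)⁻¹ := by
          rw [map_mul, map_mul, map_inv, dφ, ek, ← hdd]; group
        refine ⟨(d, d * k * d⁻¹), ⟨⟨dψ, dφ⟩, ⟨?_, kφ⟩⟩, ?_⟩
        · rw [mφψ, kψ, map_inv, kφ, inv_inv]
        · show d * (d * k * d⁻¹) * d = g
          rw [← e, ← hdd]; group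
    have hinj : Set.InjOn (fun p : H × H => p.1 * p.2 * p.1)
        ({x : H | x ∈ Kψ ∧ φ x = x⁻¹} ×ˢ {x : H | x ∈ Kφψ ∧ φ x = x⁻¹}) := by
      rintro ⟨d, k⟩ ⟨hd, hk⟩ ⟨d', k'⟩ ⟨hd', hk'⟩ e
      have e : d * k * d = d' * k' * d' := e
      have key : ∀ {d k : H}, ψ d = d → φ (ψ k) = k → φ k = k⁻¹ →
          ψ (d * d) = d * d ∧ ψ (d⁻¹ * k * d) = (d⁻¹ * k * d)⁻¹ := by
        intro d k h1 h2 h3
        have hk2 : ψ k = k⁻¹ := φ.injective (by rw [h2, map_inv, h3, inv_inv])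
        refine ⟨by rw [map_mul, h1], ?_⟩
        rw [map_mul, map_mul, map_inv, h1, hk2]; group
      obtain ⟨a1, a2⟩ := key (d := d) (k := k) hd.1 hk.1 hk.2
      obtain ⟨b1, b2⟩ := key (d := d') (k := k') hd'.1 hk'.1 hk'.2
      obtain ⟨e1, e2⟩ := fac_inj ho ψ a1 b1 a2 b2
        (calc d * d * (d⁻¹ * k * d) = d * k * d := by group
          _ = d' * k' * d' := e
          _ = d' * d' * (d'⁻¹ * k' * d') := by group)
      have hdd := sq_inj ho e1
      subst hdd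
      exact Prod.ext rfl (mul_left_cancel (mul_right_cancel e))
    rw [← hinj.ncard_image, himg]
  rw [h0, h1, h2, hJ]
  ring

end CfsgFourTransOdd
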