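import Cfsg.Agent.Lib.SharpTrans.Four
import Cfsg.Agent.Lib.FourTransOdd.Auto

/-! Involutions in a four-transitive group with four-point stabilisers of odd order. -/

set_option autoImplicit false

namespace CfsgFourTransOdd

open CfsgSharpTrans (D4 fixed mem_fixed fixed_conj conj_at)

variable {α : Type*} [Fintype α] [DecidableEq α]

/-- Four-transitive with four-point stabilisers of odd order. -/
structure Setting (G : Subgroup (Equiv.Perm α)) : Prop where
  ex : ∀ a b c d a' b' c' d' : α, D4 a b c d → D4 a' b' c' d' →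
    ∃ g ∈ G, g a = a' ∧ g b = b' ∧ g c = c' ∧ g d = d'
  odd : ∀ g ∈ G, ∀ a b c d : α, D4 a b c d → g a = a → g b = b → g c = c → g d = d → Odd (orderOf g)

/-- A pointwise stabiliser of four points. -/
def stab (G : Subgroup (Equiv.Perm α)) (a b c d : α) : Subgroup (Equiv.Perm α) where
  carrier := {g | g ∈ G ∧ g a = a ∧ g b = b ∧ g c = c ∧ g d = d}
  one_mem' := ⟨one_mem G, rfl, rfl, rfl, rfl⟩
  mul_mem' := by
    rintro g h ⟨g0, g1, g2, g3, g4⟩ ⟨h0, h1, h2, h3, h4⟩
    exact ⟨mul_mem g0 h0, by simp [g1, h1], by simp [g2, h2], by simp [g3, h3], by simp [g4, h4]⟩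
  inv_mem' := by
    rintro g ⟨g0, g1, g2, g3, g4⟩
    exact ⟨inv_mem g0, g.symm_apply_eq.2 g1.symm, g.symm_apply_eq.2 g2.symm, g.symm_apply_eq.2 g3.symm,
      g.symm_apply_eq.2 g4.symm⟩

variable {G : Subgroup (Equiv.Perm α)}

theorem mem_stab {a b c d : α} {g : Equiv.Perm α} :
    g ∈ stab G a b c d ↔ g ∈ G ∧ g a = a ∧ g b = b ∧ g c = c ∧ g d = d := Iff.rfl

theorem app_app {t : Equiv.Perm α} (ht : t * t = 1) (z : α) : t (t z) = z := by
  rw [← Equiv.Perm.mul_apply, ht, Equiv.Perm.one_apply]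

theorem comm_app {s t : Equiv.Perm α} (h : s * t = t * s) (z : α) : s (t z) = t (s z) := by
  rw [← Equiv.Perm.mul_apply, h, Equiv.Perm.mul_apply]

/-- An odd permutation order turns two-cycles into fixed points. -/
theorem fix_of_sq {g : Equiv.Perm α} (ho : Odd (orderOf g)) {z : α} (h : g (g z) = z) : g z = z := by
  obtain ⟨k, hk⟩ := ho
  have h1 : ∀ j : ℕ, (g ^ (2 * j)) z = z := fun j => by
    induction j with
    | zero => rfl
    | succ j ih => rw [show 2 * (j + 1) = 2 * j + 1 + 1 by ring, pow_succ, pow_succ]; simp [h, ih]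
  calc g z = g ((g ^ (2 * k)) z) := by rw [h1]
    _ = (g ^ (2 * k + 1)) z := by rw [pow_succ']; rfl
    _ = z := by rw [← hk, pow_orderOf_eq_one]; rfl

theorem set_of_sq {g : Equiv.Perm α} (ho : Odd (orderOf g)) {S : Finset α} (h : ∀ z ∈ S, g (g z) ∈ S)
    {z : α} (hz : z ∈ S) : g z ∈ S := by
  obtain ⟨k, hk⟩ := ho
  have h1 : ∀ j : ℕ, ∀ z ∈ S, (g ^ (2 * j)) z ∈ S := fun j => by
    induction j with
    | zero => exact fun z hz => hz
    | succ j ih =>
      intro z hz
      rw [show 2 * (j + 1) = 2 * j + 1 + 1 by ring, pow_succ, pow_succ]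
      exact ih _ (h z hz)
  have : g z = (g ^ (2 * (k + 1))) z := by
    rw [show 2 * (k + 1) = orderOf g + 1 by omega, pow_succ, pow_orderOf_eq_one, one_mul]
  rw [this]; exact h1 _ _ hz

variable (S : Setting G)
include S

theorem Setting.odd_stab {a b c d : α} (hd : D4 a b c d) {g : Equiv.Perm α} (hg : g ∈ stab G a b c d) :
    Odd (orderOf g) :=
  S.odd g hg.1 a b c d hd hg.2.1 hg.2.2.1 hg.2.2.2.1 hg.2.2.2.2

theorem Setting.odd_card {a b c d : α} (hd : D4 a b c d) : Odd (Nat.card (stab G a b c d)) := by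
  rcases Nat.even_or_odd (Nat.card (stab G a b c d)) with h | h
  · exfalso
    obtain ⟨g, hg⟩ := exists_prime_orderOf_dvd_card' (G := stab G a b c d) 2 h.two_dvd
    have := S.odd_stab hd g.2
    rw [Subgroup.orderOf_coe, hg] at this
    exact absurd this (by decide)
  · exact h

theorem Setting.fixed_le {t : Equiv.Perm α} (ht : t ∈ G) (h2 : t * t = 1) (h1 : t ≠ 1) : (fixed t).card ≤ 3 := by
  by_contra h
  obtain ⟨s, hs, hs4⟩ := Finset.exists_subset_card_eq (show 4 ≤ (fixed t).card by omega)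
  obtain ⟨a, b, c, d, h1', h2', h3', h4', h5', h6', rfl⟩ := Finset.card_eq_four.mp hs4
  simp only [Finset.insert_subset_iff, Finset.singleton_subset_iff, mem_fixed] at hs
  have ho := S.odd t ht a b c d ⟨h1', h2', h3', h4', h5', h6'⟩ hs.1 hs.2.1 hs.2.2.1 hs.2.2.2
  rw [orderOf_eq_prime (p := 2) (by rw [pow_two]; exact h2) h1] at ho
  exact absurd ho (by decide)

/-- Lifting an involution. -/
theorem Setting.lift {a b c d a' b' c' d' : α} (hd : D4 a b c d) (hd' : D4 a' b' c' d') (hne : a' ≠ a)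
    (hinv : ∀ g : Equiv.Perm α, g a = a' → g b = b' → g c = c' → g d = d' →
      g a' = a ∧ g b' = b ∧ g c' = c ∧ g d' = d) :
    ∃ t ∈ G, t * t = 1 ∧ t a = a' ∧ t b = b' ∧ t c = c' ∧ t d = d' := by
  obtain ⟨g, hg, e1, e2, e3, e4⟩ := S.ex a b c d a' b' c' d' hd hd'
  obtain ⟨i1, i2, i3, i4⟩ := hinv g e1 e2 e3 e4
  have hH : g * g ∈ stab G a b c d :=
    ⟨mul_mem hg hg, by simp [e1, i1], by simp [e2, i2], by simp [e3, i3], by simp [e4, i4]⟩
  obtain ⟨k, hk⟩ := S.odd_stab hd hH
  have hpow : ((g * g) ^ k) ∈ stab G a b c d := pow_mem hH k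
  refine ⟨g * (g * g) ^ k, mul_mem hg hpow.1, ?_, ?_, ?_, ?_, ?_⟩
  · calc g * (g * g) ^ k * (g * (g * g) ^ k) = (g * g) ^ (2 * k + 1) := by
          simp only [← pow_two, ← pow_mul, ← pow_succ', ← pow_succ]
          congr 1; ring
      _ = 1 := by rw [← hk, pow_orderOf_eq_one]
  · rw [Equiv.Perm.mul_apply, hpow.2.1, e1]
  · rw [Equiv.Perm.mul_apply, hpow.2.2.1, e2]
  · rw [Equiv.Perm.mul_apply, hpow.2.2.2.1, e3]
  · rw [Equiv.Perm.mul_apply, hpow.2.2.2.2, e4]

/-- Involutions agreeing on four points are conjugate by an element fixing them. -/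
theorem Setting.conj_in {a b c d : α} (hd : D4 a b c d) {s t : Equiv.Perm α} (hs : s ∈ G) (ht : t ∈ G)
    (hs2 : s * s = 1) (ht2 : t * t = 1) (ea : t a = s a) (eb : t b = s b) (ec : t c = s c) (ed : t d = s d) :
    ∃ w ∈ stab G a b c d, w * s * w⁻¹ = t ∧ ∀ r : Equiv.Perm α, r * s = s * r → r * t = t * r → r * w = w * r := by
  have hz : s * t ∈ stab G a b c d :=
    ⟨mul_mem hs ht, by simp [ea, app_app hs2], by simp [eb, app_app hs2], by simp [ec, app_app hs2],
      by simp [ed, app_app hs2]⟩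
  have hz' : t * s ∈ stab G a b c d := by
    have := inv_mem hz
    rwa [mul_inv_rev, inv_eq_of_mul_eq_one_right hs2, inv_eq_of_mul_eq_one_right ht2] at this
  obtain ⟨k, hk⟩ := S.odd_stab hd hz'
  set w := (t * s) ^ (k + 1) with hw
  have hww : w * w = t * s := by
    rw [hw, ← pow_add, show k + 1 + (k + 1) = orderOf (t * s) + 1 by omega, pow_succ, pow_orderOf_eq_one, one_mul]
  have hsi : s⁻¹ = s := inv_eq_of_mul_eq_one_right hs2
  have hti : t⁻¹ = t := inv_eq_of_mul_eq_one_right ht2
  have hsw : s * w * s⁻¹ = w⁻¹ := by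
    rw [hw, ← conj_pow, ← inv_pow]
    congr 1
    rw [mul_inv_rev, hti, hsi, mul_assoc, mul_assoc, hs2, mul_one]
  refine ⟨w, pow_mem hz' _, ?_, fun r hrs hrt => ?_⟩
  · calc w * s * w⁻¹ = w * s * (s * w * s⁻¹) := by rw [hsw]
      _ = w * (s * s) * w * s⁻¹ := by group
      _ = t := by rw [hs2, mul_one, hww, mul_inv_cancel_right]
  · exact Commute.pow_right (Commute.mul_right hrt hrs) (k + 1)

/-- All involutions fix equally many points. -/
theorem Setting.exists_f (h8 : 8 ≤ Fintype.card α) : ∃ f, (f = 2 ∨ f = 3) ∧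
    ∀ t ∈ G, t * t = 1 → t ≠ 1 → (fixed t).card = f := by
  classical
  obtain ⟨s4, -, hs4⟩ := Finset.exists_subset_card_eq (show 4 ≤ (Finset.univ : Finset α).card by
    rw [Finset.card_univ]; omega)
  obtain ⟨a, b, c, d, h1, h2, h3, h4, h5, h6, -⟩ := Finset.card_eq_four.mp hs4
  have hd : D4 a b c d := ⟨h1, h2, h3, h4, h5, h6⟩
  obtain ⟨t0, t0G, t02, ta, -, tc, td⟩ := S.lift (a' := b) (b' := a) (c' := c) (d' := d) hd
    ⟨h1.symm, h4, h5, h2, h3, h6⟩ h1.symm (fun g e1 e2 e3 e4 => ⟨e2, e1, e3, e4⟩)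
  have two : ∀ t ∈ G, t * t = 1 → t ≠ 1 → ∃ p q : α, D4 p (t p) q (t q) := by
    intro t ht t2 t1
    have hF := S.fixed_le ht t2 t1
    have hM : 5 ≤ ((fixed t)ᶜ).card := by rw [Finset.card_compl]; omega
    obtain ⟨p, hp⟩ := Finset.card_pos.mp (show 0 < ((fixed t)ᶜ).card by omega)
    obtain ⟨q, hq⟩ := Finset.card_pos.mp (show 0 < (((fixed t)ᶜ).erase p |>.erase (t p)).card by
      have := Finset.pred_card_le_card_erase (s := ((fixed t)ᶜ).erase p) (a := t p)
      rw [Finset.card_erase_of_mem hp] at this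
      omega)
    simp only [Finset.mem_erase, Finset.mem_compl, mem_fixed] at hp hq
    obtain ⟨hq1, hq2, hq3⟩ := hq
    refine ⟨p, q, Ne.symm hp, Ne.symm hq2, ?_, Ne.symm hq1, ?_, Ne.symm hq3⟩
    · exact fun e => hq1 (by rw [e, app_app t2])
    · exact fun e => hq2 (t.injective e).symm
  have t01 : t0 ≠ 1 := fun e => h1 (by rw [← ta, e]; rfl)
  refine ⟨(fixed t0).card, ?_, ?_⟩
  · have hge : 2 ≤ (fixed t0).card := by
      rw [← Finset.card_pair h6]
      exact Finset.card_le_card (by simp [Finset.insert_subset_iff, mem_fixed, tc, td])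
    have := S.fixed_le t0G t02 t01
    omega
  · intro t ht t2 t1
    obtain ⟨p, q, hpq⟩ := two t ht t2 t1
    obtain ⟨p', q', hpq'⟩ := two t0 t0G t02 t01
    obtain ⟨g, hg, g1, g2, g3, g4⟩ := S.ex p' (t0 p') q' (t0 q') p (t p) q (t q) hpq' hpq
    obtain ⟨w, -, hw, -⟩ := S.conj_in hpq (s := g * t0 * g⁻¹) (mul_mem (mul_mem hg t0G) (inv_mem hg)) ht
      (CfsgSharpTrans.conj_sq g t0 t02) t2
      (by rw [conj_at g t0 g1, g2]) (by rw [conj_at g t0 g2, app_app t02, app_app t2, g1])
      (by rw [conj_at g t0 g3, g4]) (by rw [conj_at g t0 g4, app_app t02, app_app t2, g3])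
    rw [← hw, fixed_conj, Finset.card_image_of_injective _ w.injective, fixed_conj,
      Finset.card_image_of_injective _ g.injective]

omit S in
/-- Conjugation by an involution on an invariant subgroup. -/
def cjAut (H : Subgroup (Equiv.Perm α)) (v : Equiv.Perm α) (hv : v * v = 1) (hn : ∀ x ∈ H, v * x * v ∈ H) :
    H ≃* H where
  toFun x := ⟨v * x * v, hn x x.2⟩
  invFun x := ⟨v * x * v, hn x x.2⟩
  left_inv x := Subtype.ext (by show v * (v * x * v) * v = x; rw [← mul_assoc, ← mul_assoc, hv, one_mul, mul_assoc, hv, mul_one])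
  right_inv x := Subtype.ext (by show v * (v * x * v) * v = x; rw [← mul_assoc, ← mul_assoc, hv, one_mul, mul_assoc, hv, mul_one])
  map_mul' x y := Subtype.ext (by
    show v * (↑x * ↑y) * v = v * ↑x * v * (v * ↑y * v)
    rw [show v * ↑x * v * (v * ↑y * v) = v * ↑x * (v * v) * ↑y * v by group, hv]; group)

omit S in
theorem cj_fix {v x : Equiv.Perm α} (hv : v * v = 1) : v * x * v = x ↔ v * x = x * v := by
  constructor
  · intro h
    conv_rhs => rw [← h, mul_assoc, hv, mul_one]
  · intro h; rw [h, mul_assoc, hv, mul_one]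

omit S in
/-- The centraliser count in a four-point stabiliser. -/
noncomputable def cen (G : Subgroup (Equiv.Perm α)) (a b c d : α) (v : Equiv.Perm α) : ℕ :=
  {x | x ∈ stab G a b c d ∧ v * x = x * v}.ncard

omit S in
/-- The number of involutions agreeing with `v` on four points. -/
noncomputable def agr (G : Subgroup (Equiv.Perm α)) (a b c d a' b' c' d' : α) : ℕ :=
  {t | t ∈ G ∧ t * t = 1 ∧ t a = a' ∧ t b = b' ∧ t c = c' ∧ t d = d'}.ncard

omit S in
theorem norm_stab {a b c d : α} {v x : Equiv.Perm α} (hv : v ∈ G) (hv2 : v * v = 1)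
    (hperm : ∀ z ∈ ({a, b, c, d} : Finset α), v z ∈ ({a, b, c, d} : Finset α)) (hx : x ∈ stab G a b c d) :
    v * x * v ∈ stab G a b c d := by
  obtain ⟨x0, x1, x2, x3, x4⟩ := hx
  have key : ∀ z ∈ ({a, b, c, d} : Finset α), (v * x * v) z = z := by
    intro z hz
    have h := hperm z hz
    simp only [Finset.mem_insert, Finset.mem_singleton] at h
    have : x (v z) = v z := by rcases h with e | e | e | e <;> rw [e] <;> assumption
    simp [this, app_app hv2]
  exact ⟨mul_mem (mul_mem hv x0) hv, key a (by simp), key b (by simp), key c (by simp), key d (by simp)⟩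

/-- Centraliser times number of conjugates. -/
theorem Setting.cen_agr {a b c d : α} (hd : D4 a b c d) {v : Equiv.Perm α} (hv : v ∈ G) (hv2 : v * v = 1)
    (hperm : ∀ z ∈ ({a, b, c, d} : Finset α), v z ∈ ({a, b, c, d} : Finset α)) :
    Nat.card (stab G a b c d) = cen G a b c d v * agr G a b c d (v a) (v b) (v c) (v d) := by
  set H := stab G a b c d with hH
  let φ := cjAut H v hv2 (fun x hx => norm_stab hv hv2 hperm hx)
  have h := card_base (S.odd_card hd) φ (fun x => φ.left_inv x) ⊤ (fun x _ => Subgroup.mem_top _)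
  rw [Subgroup.card_top] at h
  simp only [Subgroup.mem_top, true_and] at h
  rw [h]
  congr 1
  · rw [cen, ← Set.ncard_image_of_injective _ Subtype.val_injective]
    congr 1
    ext x
    constructor
    · rintro ⟨y, hy, rfl⟩
      exact ⟨y.2, (cj_fix hv2).1 (congrArg Subtype.val hy)⟩
    · rintro ⟨hx, e⟩
      exact ⟨⟨x, hx⟩, Subtype.ext ((cj_fix hv2).2 e), rfl⟩
  · rw [agr, ← Set.ncard_image_of_injective _ Subtype.val_injective]
    refine Set.ncard_congr (fun x _ => x * v) ?_ ?_ ?_
    · rintro _ ⟨y, hy, rfl⟩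
      have e : v * (y : Equiv.Perm α) * v = (y : Equiv.Perm α)⁻¹ := congrArg Subtype.val hy
      refine ⟨mul_mem y.2.1 hv, ?_, ?_, ?_, ?_, ?_⟩
      · calc (y : Equiv.Perm α) * v * (y * v) = y * (v * y * v) := by group
          _ = 1 := by rw [e, mul_inv_cancel]
      all_goals
        rw [Equiv.Perm.mul_apply]
      · have := hperm a (by simp)
        simp only [Finset.mem_insert, Finset.mem_singleton] at this
        rcases this with e | e | e | e <;> rw [e] <;> simp [y.2.2.1, y.2.2.2.1, y.2.2.2.2.1, y.2.2.2.2.2]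
      · have := hperm b (by simp)
        simp only [Finset.mem_insert, Finset.mem_singleton] at this
        rcases this with e | e | e | e <;> rw [e] <;> simp [y.2.2.1, y.2.2.2.1, y.2.2.2.2.1, y.2.2.2.2.2]
      · have := hperm c (by simp)
        simp only [Finset.mem_insert, Finset.mem_singleton] at this
        rcases this with e | e | e | e <;> rw [e] <;> simp [y.2.2.1, y.2.2.2.1, y.2.2.2.2.1, y.2.2.2.2.2]
      · have := hperm d (by simp)
        simp only [Finset.mem_insert, Finset.mem_singleton] at this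
        rcases this with e | e | e | e <;> rw [e] <;> simp [y.2.2.1, y.2.2.2.1, y.2.2.2.2.1, y.2.2.2.2.2]
    · intro x y _ _ e
      exact mul_right_cancel e
    · rintro t ⟨tG, t2, e1, e2, e3, e4⟩
      have htv : t * v ∈ stab G a b c d := by
        have hk : ∀ z ∈ ({a, b, c, d} : Finset α), t (v z) = z := by
          intro z hz
          simp only [Finset.mem_insert, Finset.mem_singleton] at hz
          rcases hz with rfl | rfl | rfl | rfl
          · rw [← e1, app_app t2]
          · rw [← e2, app_app t2]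
          · rw [← e3, app_app t2]
          · rw [← e4, app_app t2]
        exact ⟨mul_mem tG hv, hk a (by simp), hk b (by simp), hk c (by simp), hk d (by simp)⟩
      refine ⟨t * v, ⟨⟨t * v, htv⟩, Subtype.ext ?_, rfl⟩, by rw [mul_assoc, hv2, mul_one]⟩
      show v * (t * v) * v = (t * v)⁻¹
      rw [mul_inv_rev, inv_eq_of_mul_eq_one_right hv2, inv_eq_of_mul_eq_one_right t2, mul_assoc, mul_assoc t v v, hv2, mul_one]

/-- The formula for two commuting involutions. -/
theorem Setting.formula {a b c d : α} (hd : D4 a b c d) {s t : Equiv.Perm α} (hs : s ∈ G) (ht : t ∈ G)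
    (hs2 : s * s = 1) (ht2 : t * t = 1) (hst : s * t = t * s)
    (hps : ∀ z ∈ ({a, b, c, d} : Finset α), s z ∈ ({a, b, c, d} : Finset α))
    (hpt : ∀ z ∈ ({a, b, c, d} : Finset α), t z ∈ ({a, b, c, d} : Finset α)) :
    Nat.card (stab G a b c d) * {x | x ∈ stab G a b c d ∧ s * x = x * s ∧ t * x = x * t}.ncard ^ 2 =
      cen G a b c d s * cen G a b c d t * cen G a b c d (s * t) := by
  set H := stab G a b c d with hH
  let φ := cjAut H s hs2 (fun x hx => norm_stab hs hs2 hps hx)
  let ψ := cjAut H t ht2 (fun x hx => norm_stab ht ht2 hpt hx)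
  have hst2 : s * t * (s * t) = 1 := by
    rw [mul_assoc, ← mul_assoc t s t, ← hst, mul_assoc, ht2, mul_one, hs2]
  have h := four_formula (S.odd_card hd) φ ψ (fun x => φ.left_inv x) (fun x => ψ.left_inv x) (fun x => Subtype.ext (by
    show s * (t * x * t) * s = t * (s * x * s) * t
    calc s * (t * x * t) * s = (s * t) * x * (t * s) := by group
      _ = (t * s) * x * (s * t) := by rw [hst]
      _ = t * (s * x * s) * t := by group))
  have key : ∀ (P : H → Prop) (Q : Equiv.Perm α → Prop), (∀ y : H, P y ↔ Q y) →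
      {y : H | P y}.ncard = {x | x ∈ H ∧ Q x}.ncard := by
    intro P Q hPQ
    rw [← Set.ncard_image_of_injective _ Subtype.val_injective]
    congr 1
    ext x
    constructor
    · rintro ⟨y, hy, rfl⟩; exact ⟨y.2, (hPQ y).1 hy⟩
    · rintro ⟨hx, e⟩; exact ⟨⟨x, hx⟩, (hPQ _).2 e, rfl⟩
  rw [key (fun x => φ x = x ∧ ψ x = x) (fun x => s * x = x * s ∧ t * x = x * t) (fun y => by
        rw [Subtype.ext_iff, Subtype.ext_iff]; exact and_congr (cj_fix hs2) (cj_fix ht2)),
    key (fun x => φ x = x) (fun x => s * x = x * s) (fun y => by rw [Subtype.ext_iff]; exact cj_fix hs2),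
    key (fun x => ψ x = x) (fun x => t * x = x * t) (fun y => by rw [Subtype.ext_iff]; exact cj_fix ht2),
    key (fun x => φ (ψ x) = x) (fun x => s * t * x = x * (s * t)) (fun y => by
      rw [Subtype.ext_iff]
      show s * (t * (y : Equiv.Perm α) * t) * s = y ↔ _
      rw [← cj_fix hst2, show s * (t * (y : Equiv.Perm α) * t) * s = s * t * y * (t * s) by group, ← hst])] at h
  exact h

theorem Setting.agr_const {a b c d a' b' c' d' : α} {p q r u p' q' r' u' : α} {g : Equiv.Perm α} (hg : g ∈ G)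
    (h1 : g a = p) (h2 : g b = q) (h3 : g c = r) (h4 : g d = u) (h5 : g a' = p') (h6 : g b' = q') (h7 : g c' = r')
    (h8 : g d' = u') : agr G a b c d a' b' c' d' = agr G p q r u p' q' r' u' := by
  refine Set.ncard_congr (fun t _ => g * t * g⁻¹) ?_ ?_ ?_
  · rintro t ⟨tG, t2, e1, e2, e3, e4⟩
    exact ⟨mul_mem (mul_mem hg tG) (inv_mem hg), CfsgSharpTrans.conj_sq g t t2, by rw [conj_at g t h1, e1, h5],
      by rw [conj_at g t h2, e2, h6], by rw [conj_at g t h3, e3, h7], by rw [conj_at g t h4, e4, h8]⟩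
  · intro x y _ _ e
    simpa using e
  · rintro t ⟨tG, t2, e1, e2, e3, e4⟩
    refine ⟨g⁻¹ * t * g, ⟨mul_mem (mul_mem (inv_mem hg) tG) hg, ?_, ?_, ?_, ?_, ?_⟩, by group⟩
    · calc g⁻¹ * t * g * (g⁻¹ * t * g) = g⁻¹ * (t * t) * g := by group
        _ = 1 := by rw [t2]; group
    all_goals simp only [Equiv.Perm.mul_apply, h1, h2, h3, h4, e1, e2, e3, e4]
    · rw [← h5]; exact g.symm_apply_apply a'
    · rw [← h6]; exact g.symm_apply_apply b'
    · rw [← h7]; exact g.symm_apply_apply c'
    · rw [← h8]; exact g.symm_apply_apply d'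

/-- The swap–swap count does not depend on the four points. -/
theorem Setting.mx_eq {a b c d p q r u : α} (hd : D4 a b c d) (hd' : D4 p q r u) :
    agr G a b c d b a d c = agr G p q r u q p u r := by
  obtain ⟨g, hg, e1, e2, e3, e4⟩ := S.ex a b c d p q r u hd hd'
  exact S.agr_const hg e1 e2 e3 e4 e2 e1 e4 e3

/-- The swap–fix count does not depend on the four points. -/
theorem Setting.my_eq {a b c d p q r u : α} (hd : D4 a b c d) (hd' : D4 p q r u) :
    agr G a b c d b a c d = agr G p q r u q p r u := by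
  obtain ⟨g, hg, e1, e2, e3, e4⟩ := S.ex a b c d p q r u hd hd'
  exact S.agr_const hg e1 e2 e3 e4 e2 e1 e3 e4

open scoped Classical in
/-- Double counting of involutions. -/
theorem Setting.double_count {a b c d : α} (hd : D4 a b c d) {f : ℕ} (hf2 : 2 ≤ f)
    (hf : ∀ t ∈ G, t * t = 1 → t ≠ 1 → (fixed t).card = f) (h8 : 8 ≤ Fintype.card α) (hf3 : f ≤ 3) :
    agr G a b c d b a d c * (f * (f - 1)) = agr G a b c d b a c d * (Fintype.card α - f - 2) := by
  set n := Fintype.card α with hn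
  set P4 : Finset (α × α × α × α) := Finset.univ.filter fun v => D4 v.1 v.2.1 v.2.2.1 v.2.2.2 with hP4
  set I : Finset (Equiv.Perm α) := Finset.univ.filter fun t => t ∈ G ∧ t * t = 1 ∧ t ≠ 1 with hI
  have hIm : ∀ t ∈ I, t ∈ G ∧ t * t = 1 ∧ t ≠ 1 := fun t ht => (Finset.mem_filter.1 ht).2
  have hagr : ∀ p q r u p' q' r' u' : α, agr G p q r u p' q' r' u' = (Finset.univ.filter fun t =>
      t ∈ G ∧ t * t = 1 ∧ t p = p' ∧ t q = q' ∧ t r = r' ∧ t u = u').card := by
    intro p q r u p' q' r' u'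
    rw [agr, ← Set.ncard_coe_finset]
    congr 1
    ext t; simp
  have eX : P4.card * agr G a b c d b a d c = I.card * ((n - f) * (n - f - 2)) := by
    have e1 : ∀ v ∈ P4, (I.bipartiteBelow (fun t v => t v.1 = v.2.1 ∧ t v.2.2.1 = v.2.2.2) v).card =
        agr G a b c d b a d c := by
      rintro ⟨p, q, r, u⟩ hv
      have hv' : D4 p q r u := (Finset.mem_filter.1 hv).2
      rw [S.mx_eq hd hv', hagr]
      congr 1
      ext t
      simp only [hI, Finset.bipartiteBelow, Finset.mem_filter, Finset.mem_univ, true_and]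
      constructor
      · rintro ⟨⟨tG, t2, -⟩, x1, x2⟩
        exact ⟨tG, t2, x1, by rw [← x1, app_app t2], x2, by rw [← x2, app_app t2]⟩
      · rintro ⟨tG, t2, x1, -, x2, -⟩
        exact ⟨⟨tG, t2, fun e => hv'.1 (by rw [← x1, e]; rfl)⟩, x1, x2⟩
    have e2 : ∀ t ∈ I, (P4.bipartiteAbove (fun t v => t v.1 = v.2.1 ∧ t v.2.2.1 = v.2.2.2) t).card =
        (n - f) * (n - f - 2) := by
      intro t ht
      obtain ⟨tG, t2, t1⟩ := hIm t ht
      have hM : ((fixed t)ᶜ).card = n - f := by rw [Finset.card_compl, hf t tG t2 t1]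
      rw [← hM]
      set M := (fixed t)ᶜ with hMdef
      have hmem : ∀ z, z ∈ M ↔ t z ≠ z := fun z => by rw [hMdef, Finset.mem_compl, mem_fixed]
      calc (P4.bipartiteAbove (fun t v => t v.1 = v.2.1 ∧ t v.2.2.1 = v.2.2.2) t).card
          = (M.sigma fun p => (M.erase p).erase (t p)).card := by
            refine Finset.card_bij (fun v _ => ⟨v.1, v.2.2.1⟩) ?_ ?_ ?_
            · rintro ⟨p, q, r, u⟩ hv
              simp only [hP4, Finset.bipartiteAbove, Finset.mem_filter, Finset.mem_univ, true_and] at hv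
              obtain ⟨⟨d1, d2, d3, d4, d5, d6⟩, x1, x2⟩ := hv
              simp only [Finset.mem_sigma, Finset.mem_erase, hmem, x1, x2]
              exact ⟨d1.symm, d4.symm, d2.symm, d6.symm⟩
            · rintro ⟨p, q, r, u⟩ hv ⟨p', q', r', u'⟩ hv' e
              simp only [Finset.bipartiteAbove, Finset.mem_filter] at hv hv'
              simp only [Sigma.mk.injEq, heq_eq_eq] at e
              obtain ⟨rfl, rfl⟩ := e
              exact Prod.ext rfl (Prod.ext (hv.2.1.symm.trans hv'.2.1) (Prod.ext rfl (hv.2.2.symm.trans hv'.2.2)))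
            · rintro ⟨p, r⟩ hpr
              simp only [Finset.mem_sigma, Finset.mem_erase, hmem] at hpr
              obtain ⟨hp, hr1, hr2, hr3⟩ := hpr
              refine ⟨⟨p, t p, r, t r⟩, ?_, rfl⟩
              simp only [hP4, Finset.bipartiteAbove, Finset.mem_filter, Finset.mem_univ, true_and, and_true]
              exact ⟨Ne.symm hp, Ne.symm hr2, fun e => hr1 (by rw [e, app_app t2]), Ne.symm hr1,
                fun e => hr2 (t.injective e).symm, Ne.symm hr3⟩
        _ = ∑ p ∈ M, ((M.erase p).erase (t p)).card := Finset.card_sigma _ _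
        _ = ∑ p ∈ M, (M.card - 2) := by
            refine Finset.sum_congr rfl fun p hp => ?_
            have hp' := (hmem p).1 hp
            have htp : t p ∈ M.erase p :=
              Finset.mem_erase.2 ⟨hp', (hmem _).2 fun e => hp' (t.injective e)⟩
            rw [Finset.card_erase_of_mem htp, Finset.card_erase_of_mem hp]; omega
        _ = M.card * (M.card - 2) := by rw [Finset.sum_const, smul_eq_mul]
    exact (Finset.card_mul_eq_card_mul _ e2 e1).symm
  have eY : P4.card * agr G a b c d b a c d = I.card * ((n - f) * (f * (f - 1))) := by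
    have e1 : ∀ v ∈ P4, (I.bipartiteBelow (fun t v => t v.1 = v.2.1 ∧ t v.2.2.1 = v.2.2.1 ∧ t v.2.2.2 = v.2.2.2) v).card =
        agr G a b c d b a c d := by
      rintro ⟨p, q, r, u⟩ hv
      have hv' : D4 p q r u := (Finset.mem_filter.1 hv).2
      rw [S.my_eq hd hv', hagr]
      congr 1
      ext t
      simp only [hI, Finset.bipartiteBelow, Finset.mem_filter, Finset.mem_univ, true_and]
      constructor
      · rintro ⟨⟨tG, t2, -⟩, x1, x2, x3⟩
        exact ⟨tG, t2, x1, by rw [← x1, app_app t2], x2, x3⟩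
      · rintro ⟨tG, t2, x1, -, x2, x3⟩
        exact ⟨⟨tG, t2, fun e => hv'.1 (by rw [← x1, e]; rfl)⟩, x1, x2, x3⟩
    have e2 : ∀ t ∈ I, (P4.bipartiteAbove (fun t v => t v.1 = v.2.1 ∧ t v.2.2.1 = v.2.2.1 ∧ t v.2.2.2 = v.2.2.2) t).card =
        (n - f) * (f * (f - 1)) := by
      intro t ht
      obtain ⟨tG, t2, t1⟩ := hIm t ht
      have hF := hf t tG t2 t1
      have hM : ((fixed t)ᶜ).card = n - f := by rw [Finset.card_compl, hF]
      rw [← hM, Nat.mul_sub_one, ← hF, ← Finset.offDiag_card, ← Finset.card_product]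
      refine Finset.card_bij (fun v _ => (v.1, (v.2.2.1, v.2.2.2))) ?_ ?_ ?_
      · rintro ⟨p, q, r, u⟩ hv
        simp only [hP4, Finset.bipartiteAbove, Finset.mem_filter, Finset.mem_univ, true_and] at hv
        obtain ⟨⟨d1, d2, d3, d4, d5, d6⟩, x1, x2, x3⟩ := hv
        simp only [Finset.mem_product, Finset.mem_compl, mem_fixed, Finset.mem_offDiag, x1]
        exact ⟨d1.symm, x2, x3, d6⟩
      · rintro ⟨p, q, r, u⟩ hv ⟨p', q', r', u'⟩ hv' e
        simp only [Finset.bipartiteAbove, Finset.mem_filter] at hv hv'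
        simp only [Prod.mk.injEq] at e
        obtain ⟨rfl, rfl, rfl⟩ := e
        exact Prod.ext rfl (Prod.ext (hv.2.1.symm.trans hv'.2.1) rfl)
      · rintro ⟨p, r, u⟩ hpr
        simp only [Finset.mem_product, Finset.mem_compl, mem_fixed, Finset.mem_offDiag] at hpr
        obtain ⟨hp, hr, hu, hru⟩ := hpr
        refine ⟨⟨p, t p, r, u⟩, ?_, rfl⟩
        simp only [hP4, Finset.bipartiteAbove, Finset.mem_filter, Finset.mem_univ, true_and, hr, hu, and_true]
        refine ⟨Ne.symm hp, fun e => hp (by rw [e, hr]), fun e => hp (by rw [e, hu]), ?_, ?_, hru⟩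
        · exact fun e => hp (by rw [e]; rw [← hr, ← e, app_app t2])
        · exact fun e => hp (by rw [e]; rw [← hu, ← e, app_app t2])
    exact (Finset.card_mul_eq_card_mul _ e2 e1).symm
  have hP : 0 < P4.card := Finset.card_pos.2 ⟨(a, b, c, d), Finset.mem_filter.2 ⟨Finset.mem_univ _, hd⟩⟩
  refine Nat.eq_of_mul_eq_mul_left hP ?_
  calc P4.card * (agr G a b c d b a d c * (f * (f - 1))) = (P4.card * agr G a b c d b a d c) * (f * (f - 1)) := by ring
    _ = (P4.card * agr G a b c d b a c d) * (n - f - 2) := by rw [eX, eY]; ring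
    _ = P4.card * (agr G a b c d b a c d * (n - f - 2)) := by ring

end CfsgFourTransOdd
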